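import Groth.Agent.L05.Hensel.IntegralDomain
import Groth.Agent.L28.Divisor.Local
import Mathlib.FieldTheory.PrimitiveElement
import Mathlib.RingTheory.AdjoinRoot
import Mathlib.RingTheory.DiscreteValuationRing.TFAE
import Mathlib.RingTheory.Polynomial.Basic
import Mathlib.RingTheory.Localization.Integral

/-! # Finite separable residue extensions lift to henselian discrete valuation rings -/

set_option autoImplicit false
set_option linter.style.haveILetI false
set_option linter.unusedSectionVars false
set_option maxSynthPendingDepth 3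

universe u

open IsLocalRing Polynomial

namespace Groth.L28.CdLower

/-- A local noetherian ring with maximal ideal generated by a non-zero-divisor. -/
theorem isDomain_of_principal_regular {S : Type u} [CommRing S] [IsLocalRing S] [IsNoetherianRing S] (τ : S)
    (hτ : maximalIdeal S = Ideal.span {τ}) (hreg : ∀ x : S, τ * x = 0 → x = 0) : IsDomain S := by
  have hpow : ∀ (n : ℕ) (x : S), τ ^ n * x = 0 → x = 0 := by
    intro n
    induction n with
    | zero => intro x h; simpa using h
    | succ n ih =>
      intro x h
      refine ih x (hreg _ ?_)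
      rw [← h]
      ring
  haveI : NoZeroDivisors S := ⟨fun {a b} hab => by
    by_contra hcon
    push Not at hcon
    obtain ⟨n, e, rfl⟩ := Divisor.exists_unit_mul_pow τ hτ a hcon.1
    obtain ⟨m, e', rfl⟩ := Divisor.exists_unit_mul_pow τ hτ b hcon.2
    have h1 : τ ^ (n + m) * ((e * e' : Sˣ) : S) = 0 := by
      rw [← hab, Units.val_mul]
      ring
    exact (e * e').ne_zero (hpow _ _ h1)⟩
  exact NoZeroDivisors.to_isDomain S

set_option maxHeartbeats 1000000 in
/-- A finite separable extension of the residue field lifts to a henselian discrete valuation ring. -/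
theorem exists_lift (R : Type u) [CommRing R] [IsDomain R] [IsDiscreteValuationRing R] [HenselianLocalRing R]
    (E : Type u) [Field E] [Algebra (ResidueField R) E] [FiniteDimensional (ResidueField R) E]
    [Algebra.IsSeparable (ResidueField R) E] :
    ∃ (S : Type u) (_ : CommRing S) (_ : IsDomain S) (_ : IsDiscreteValuationRing S) (_ : HenselianLocalRing S)
      (_ : Algebra R S) (_ : Module.Finite R S) (_ : FaithfulSMul R S),
      Nonempty (ResidueField S ≃+* E) := by
  obtain ⟨α, hα⟩ := Field.exists_primitive_element (ResidueField R) E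
  have hint : IsIntegral (ResidueField R) α := Algebra.IsIntegral.isIntegral α
  obtain ⟨f, hfmap, hdeg, hf⟩ := Polynomial.lifts_and_degree_eq_and_monic
    ((mem_lifts _).2 (Polynomial.map_surjective (residue R) residue_surjective (minpoly (ResidueField R) α)))
    (minpoly.monic hint)
  let S := AdjoinRoot f
  let φ : R →+* E := (algebraMap (ResidueField R) E).comp (residue R)
  have hev : f.eval₂ φ α = 0 := by
    rw [← eval₂_map, hfmap]
    exact minpoly.aeval _ _
  let ψ : S →+* E := AdjoinRoot.lift φ α hev
  have hψmk : ∀ g : R[X], ψ (AdjoinRoot.mk f g) = aeval α (g.map (residue R)) := fun g => by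
    refine (AdjoinRoot.lift_mk hev g).trans ?_
    rw [aeval_def, eval₂_map]
  have hψ : Function.Surjective ψ := fun e => by
    have he : e ∈ Algebra.adjoin (ResidueField R) ({α} : Set E) := by
      rw [← IntermediateField.adjoin_simple_toSubalgebra_of_isAlgebraic hint.isAlgebraic, hα]
      exact trivial
    obtain ⟨g, rfl⟩ := Algebra.adjoin_singleton_eq_range_aeval (ResidueField R) α ▸ he
    obtain ⟨g₀, rfl⟩ := Polynomial.map_surjective (residue R) residue_surjective g
    exact ⟨AdjoinRoot.mk f g₀, hψmk g₀⟩
  obtain ⟨π, hπ⟩ := IsDiscreteValuationRing.exists_irreducible R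
  let P : S := algebraMap R S π
  have hker : RingHom.ker ψ = Ideal.span {P} := by
    refine le_antisymm (fun s hs => ?_) ?_
    · obtain ⟨g, rfl⟩ := AdjoinRoot.mk_surjective s
      have h0 : aeval α (g.map (residue R)) = 0 := (hψmk g).symm.trans hs
      obtain ⟨r, hr⟩ := minpoly.dvd _ _ h0
      obtain ⟨r₀, rfl⟩ := Polynomial.map_surjective (residue R) residue_surjective r
      have hmem : g - f * r₀ ∈ (maximalIdeal R).map C := by
        rw [Ideal.mem_map_C_iff]
        intro n
        rw [← residue_eq_zero_iff, ← coeff_map, Polynomial.map_sub, Polynomial.map_mul, hfmap, ← hr, sub_self,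
          coeff_zero]
      rw [hπ.maximalIdeal_eq, Ideal.map_span, Set.image_singleton] at hmem
      obtain ⟨c, hc⟩ := Ideal.mem_span_singleton'.1 hmem
      refine Ideal.mem_span_singleton'.2 ⟨AdjoinRoot.mk f c, ?_⟩
      have := congrArg (AdjoinRoot.mk f) hc
      rw [map_mul, map_sub, map_mul, AdjoinRoot.mk_self, zero_mul, sub_zero] at this
      exact this
    · rw [Ideal.span_le, Set.singleton_subset_iff]
      show ψ (AdjoinRoot.of f π) = 0
      rw [AdjoinRoot.lift_of hev]
      show algebraMap (ResidueField R) E (residue R π) = 0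
      rw [(residue_eq_zero_iff π).2 (by rw [hπ.maximalIdeal_eq]; exact Ideal.mem_span_singleton_self π), map_zero]
  haveI hfree : Module.Free R S := Module.Free.of_basis (AdjoinRoot.powerBasis' hf).basis
  haveI hfin : Module.Finite R S := (AdjoinRoot.powerBasis' hf).finite
  haveI : IsNoetherianRing S := IsNoetherianRing.of_finite R S
  haveI hm : (RingHom.ker ψ).IsMaximal := RingHom.ker_isMaximal_of_surjective ψ hψ
  haveI : IsLocalRing S := IsLocalRing.of_unique_max_ideal ⟨RingHom.ker ψ, hm, fun M hM => by
    haveI : M.IsMaximal := hM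
    have hc : (M.comap (algebraMap R S)).IsMaximal := Ideal.isMaximal_comap_of_isIntegral_of_isMaximal (R := R) M
    refine (hm.eq_of_le hM.ne_top ?_).symm
    rw [hker, Ideal.span_le, Set.singleton_subset_iff]
    show π ∈ M.comap (algebraMap R S)
    rw [eq_maximalIdeal hc, hπ.maximalIdeal_eq]
    exact Ideal.mem_span_singleton_self π⟩
  have hmax : maximalIdeal S = Ideal.span {P} := (eq_maximalIdeal hm).symm.trans hker
  have hreg : ∀ x : S, P * x = 0 → x = 0 := fun x hx => by
    have : π • x = 0 := by rw [Algebra.smul_def]; exact hx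
    exact (smul_eq_zero.1 this).resolve_left hπ.ne_zero
  haveI : IsDomain S := isDomain_of_principal_regular P hmax hreg
  haveI : HenselianLocalRing S := Groth.L05.henselianLocalRing_of_integral (A := R) S
  haveI : FaithfulSMul R S := (faithfulSMul_iff_algebraMap_injective R S).2 fun a b h => by
    have : (a - b) • (1 : S) = 0 := by rw [Algebra.smul_def, mul_one, map_sub, h, sub_self]
    exact sub_eq_zero.1 ((smul_eq_zero.1 this).resolve_right one_ne_zero)
  have hnf : ¬ IsField S := fun hF => by
    rw [IsLocalRing.isField_iff_maximalIdeal_eq, hmax, Ideal.span_singleton_eq_bot] at hF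
    exact hπ.ne_zero (FaithfulSMul.algebraMap_injective R S (hF.trans (map_zero _).symm))
  haveI : IsDiscreteValuationRing S := ((IsDiscreteValuationRing.TFAE S hnf).out 0 4 rfl rfl).mpr ⟨⟨P, hmax⟩⟩
  refine ⟨S, inferInstance, inferInstance, inferInstance, inferInstance, inferInstance, inferInstance, inferInstance, ?_⟩
  exact ⟨(Ideal.quotEquivOfEq (eq_maximalIdeal hm).symm).trans (RingHom.quotientKerEquivOfSurjective hψ)⟩

end Groth.L28.CdLower
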