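import Groth.Agent.L05.Henselization.Noeth
import Groth.Agent.L05.Henselization.Local
import Groth.Agent.L05.Henselization.StrictUniq
import Groth.Agent.L28.CdLower.Lift
import Mathlib.RingTheory.Unramified.Finite
import Mathlib.RingTheory.Etale.Field

/-! # Henselization of a discrete valuation ring -/

set_option autoImplicit false
set_option linter.style.haveILetI false
set_option linter.unusedSectionVars false
set_option maxSynthPendingDepth 3

universe u

open IsLocalRing Groth.L05.Henselization

open scoped TensorProduct

namespace Groth.L28.CdLower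

/-- Elements of a henselization are algebraic. -/
theorem isAlgebraic_col (V : Type u) [CommRing V] [IsDomain V] (K : Type u) [CommRing K] [Algebra V K]
    (L : Type u) [Field L] [Algebra V L] [FaithfulSMul V L] (g : Col V K →ₐ[V] L) (b : Col V K) :
    IsAlgebraic V (g b) := by
  obtain ⟨X, x, rfl⟩ := ι_surj b
  letI : Algebra (FractionRing V) L := FractionRing.liftAlgebra V L
  haveI : IsScalarTower V (FractionRing V) L := FractionRing.isScalarTower_liftAlgebra V L
  let F := FractionRing V
  let φ : F ⊗[V] X.R →ₐ[F] L := Algebra.TensorProduct.lift (Algebra.ofId F L) (g.comp (ι X))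
    fun _ _ => Commute.all _ _
  haveI : Module.Finite F (F ⊗[V] X.R) := Algebra.FormallyUnramified.finite_of_free F _
  have hi : IsIntegral F (φ (1 ⊗ₜ x)) := (Algebra.IsIntegral.isIntegral (R := F) (1 ⊗ₜ[V] x : F ⊗[V] X.R)).map φ
  have he : φ (1 ⊗ₜ x) = g (ι X x) := by simp [φ]
  rw [he] at hi
  exact (IsFractionRing.isAlgebraic_iff V F L).2 hi.isAlgebraic

/-- The henselization of a discrete valuation ring. -/
theorem exists_hens_dvr (V : Type u) [CommRing V] [IsDomain V] [IsDiscreteValuationRing V] :
    ∃ (S : Type u) (_ : CommRing S) (_ : IsDomain S) (_ : IsDiscreteValuationRing S) (_ : HenselianLocalRing S)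
      (_ : Algebra V S) (_ : IsLocalHom (algebraMap V S)) (_ : FaithfulSMul V S) (_ : Algebra.IsAlgebraic V S),
      Function.Bijective (ResidueField.map (algebraMap V S)) := by
  obtain ⟨S, _, _, _, _, hS⟩ := exists_isHenselization V
  haveI : IsNoetherianRing S := (isNoetherianRing_iff_hens V S).1 inferInstance
  haveI := flat_of_isHenselization V S
  haveI : Module.FaithfullyFlat V S := faithfullyFlat_of_flat_local
  haveI : FaithfulSMul V S := inferInstance
  obtain ⟨π, hπ⟩ := IsDiscreteValuationRing.exists_irreducible V
  have hmax : maximalIdeal S = Ideal.span {algebraMap V S π} := by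
    rw [← map_maximalIdeal_of_isHenselization V S, hπ.maximalIdeal_eq, Ideal.map_span, Set.image_singleton]
  have hreg : ∀ x : S, algebraMap V S π * x = 0 → x = 0 := fun x hx => by
    have : π • x = 0 := by rw [Algebra.smul_def]; exact hx
    exact (smul_eq_zero.1 this).resolve_left hπ.ne_zero
  haveI : IsDomain S := isDomain_of_principal_regular _ hmax hreg
  have hnf : ¬ IsField S := fun hF => by
    rw [IsLocalRing.isField_iff_maximalIdeal_eq, hmax, Ideal.span_singleton_eq_bot] at hF
    exact hπ.ne_zero (FaithfulSMul.algebraMap_injective V S (hF.trans (map_zero _).symm))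
  haveI : IsDiscreteValuationRing S :=
    ((IsDiscreteValuationRing.TFAE S hnf).out 0 4 rfl rfl).mpr ⟨⟨_, hmax⟩⟩
  haveI : HenselianLocalRing S := hS.henselian
  obtain ⟨e⟩ := henselization_algEquiv V S
  haveI : FaithfulSMul V (FractionRing S) := (faithfulSMul_iff_algebraMap_injective V _).2 (by
    rw [IsScalarTower.algebraMap_eq V S (FractionRing S)]
    exact (IsFractionRing.injective S (FractionRing S)).comp (FaithfulSMul.algebraMap_injective V S))
  haveI : Algebra.IsAlgebraic V S := ⟨fun s => by
    have h := isAlgebraic_col V (ResidueField V) (FractionRing S)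
      ((IsScalarTower.toAlgHom V S (FractionRing S)).comp e.toAlgHom) (e.symm s)
    simp only [AlgHom.comp_apply, AlgEquiv.coe_toAlgHom, AlgEquiv.apply_symm_apply] at h
    exact (isAlgebraic_algebraMap_iff (IsFractionRing.injective S (FractionRing S))).1 h⟩
  exact ⟨S, inferInstance, inferInstance, inferInstance, inferInstance, inferInstance, inferInstance, inferInstance,
    inferInstance, residueField_map_bijective_of_isHenselization V S⟩

end Groth.L28.CdLower
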