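import Groth.Agent.L28.CdLower.Crit
import Groth.Agent.L28.CdLower.Hens
import Groth.Agent.L02.KrullAkizuki
import Groth.Agent.L22.AffineDim
import Mathlib.RingTheory.Ideal.KrullsHeightTheorem
import Mathlib.RingTheory.KrullDimension.LocalRing
import Mathlib.RingTheory.DedekindDomain.Dvr
import Mathlib.RingTheory.Localization.Integral

/-! # Cohomological dimension bounds the dimension -/

set_option autoImplicit false
set_option linter.style.haveILetI false
set_option linter.unusedSectionVars false
set_option backward.isDefEq.respectTransparency.types false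

universe u

open CategoryTheory AlgebraicGeometry IsLocalRing

noncomputable section

namespace Groth.L28.CdLower

open Groth.L28.FieldTower

theorem cdLE_of_finite {ℓ d : ℕ} (K L : Type u) [Field K] [Field L] (f : K →+* L) (hf : f.Finite)
    (h : CdLE ℓ (Spec (CommRingCat.of K)) d) : CdLE ℓ (Spec (CommRingCat.of L)) d := by
  haveI : IsIntegralHom (Spec.map (CommRingCat.ofHom f)) := IsIntegralHom.SpecMap_iff.2 hf.to_isIntegral
  exact h.of_integral (Spec.map (CommRingCat.ofHom f))

/-- Below the generic point there is a field of smaller cohomological dimension, finite over the residue field. -/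
theorem exists_residue_extension {ℓ : ℕ} (hℓ : ℓ.Prime) (A : Type u) [CommRing A] [IsDomain A] [IsNoetherianRing A]
    (hu : IsUnit (ℓ : A)) {d : ℕ}
    (hd : CdLE ℓ (Spec (CommRingCat.of (FractionRing A))) d) (Q : Ideal A) [Q.IsPrime] (hQ : Q.height = 1) :
    ∃ (E : Type u) (_ : Field E) (f : Q.ResidueField →+* E), f.Finite ∧ 1 ≤ d ∧
      CdLE ℓ (Spec (CommRingCat.of E)) (d - 1) := by
  let O := Localization.AtPrime Q
  let L := FractionRing A
  haveI : Ring.KrullDimLE 1 O := Ring.krullDimLE_iff.2 (by
    rw [IsLocalization.AtPrime.ringKrullDim_eq_height Q O, hQ]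
    rfl)
  haveI : IsDomain O := IsLocalization.isDomain_localization Q.primeCompl_le_nonZeroDivisors
  haveI : IsNoetherianRing O := IsLocalization.isNoetherianRing Q.primeCompl O inferInstance
  haveI : Ring.DimensionLEOne O := ⟨fun {p} hne hp => hp.isMaximal_of_ne_bot hne⟩
  letI : Algebra O L := (IsLocalization.map L (RingHom.id A) (show Q.primeCompl ≤ (nonZeroDivisors A).comap (RingHom.id A)
    from Q.primeCompl_le_nonZeroDivisors)).toAlgebra
  haveI : IsScalarTower A O L := IsScalarTower.of_algebraMap_eq fun a =>
    (IsLocalization.map_eq (S := O) (Q := L) (g := RingHom.id A)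
      (show Q.primeCompl ≤ (nonZeroDivisors A).comap (RingHom.id A) from Q.primeCompl_le_nonZeroDivisors) a).symm
  haveI : IsFractionRing O L := IsFractionRing.isFractionRing_of_isDomain_of_isLocalization Q.primeCompl O L
  let B := integralClosure O L
  obtain ⟨hB, hsurj, -, hfin⟩ := Groth.L02.KrullAkizuki.main (A := O) (B := B) L L
  haveI := hB
  haveI : IsFractionRing B L := IsIntegralClosure.isFractionRing_of_finite_extension O L L B
  obtain ⟨⟨M, hMp⟩, hM⟩ := hsurj (closedPoint O)
  haveI := hMp
  have hMc : M.comap (algebraMap O B) = maximalIdeal O := congrArg PrimeSpectrum.asIdeal hM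
  have hnfO : ¬ IsField O := fun hF => by
    have h0 := ringKrullDim_eq_zero_of_isField hF
    rw [IsLocalization.AtPrime.ringKrullDim_eq_height Q O, hQ] at h0
    exact one_ne_zero (WithBot.coe_inj.1 h0)
  have hM0 : M ≠ ⊥ := fun h => hnfO (by
    rw [IsLocalRing.isField_iff_maximalIdeal_eq, ← hMc, h]
    exact Ideal.comap_bot_of_injective _ (fun a b e => IsFractionRing.injective O L (congrArg Subtype.val e)))
  haveI hMmax : M.IsMaximal := Ideal.IsPrime.isMaximal inferInstance hM0
  let V := Localization.AtPrime M
  haveI : IsDomain V := IsLocalization.isDomain_localization M.primeCompl_le_nonZeroDivisors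
  haveI : IsDiscreteValuationRing V := IsLocalization.AtPrime.isDiscreteValuationRing_of_dedekind_domain B hM0 V
  obtain ⟨S, _, _, _, _, _, _, _, _, hres⟩ := exists_hens_dvr V
  -- the fraction field
  letI : Algebra V L := (IsLocalization.map L (RingHom.id B) (show M.primeCompl ≤ (nonZeroDivisors B).comap (RingHom.id B)
    from M.primeCompl_le_nonZeroDivisors)).toAlgebra
  haveI : IsScalarTower B V L := IsScalarTower.of_algebraMap_eq fun b =>
    (IsLocalization.map_eq (S := V) (Q := L) (g := RingHom.id B)
      (show M.primeCompl ≤ (nonZeroDivisors B).comap (RingHom.id B) from M.primeCompl_le_nonZeroDivisors) b).symm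
  haveI : IsFractionRing V L := IsFractionRing.isFractionRing_of_isDomain_of_isLocalization M.primeCompl V L
  let T := FractionRing S
  haveI : FaithfulSMul V T := (faithfulSMul_iff_algebraMap_injective V T).2 (by
    rw [IsScalarTower.algebraMap_eq V S T]
    exact (IsFractionRing.injective S T).comp (FaithfulSMul.algebraMap_injective V S))
  have hg : Function.Injective (algebraMap V T : V →+* T) := FaithfulSMul.algebraMap_injective V T
  let g : L →+* T := IsFractionRing.lift (A := V) (K := L) hg
  letI : Algebra L T := g.toAlgebra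
  haveI : IsScalarTower V L T := IsScalarTower.of_algebraMap_eq fun v =>
    (IsFractionRing.lift_algebraMap (A := V) (K := L) hg v).symm
  haveI : Module.IsTorsionFree V T := inferInstance
  haveI : Algebra.IsAlgebraic V T := (IsFractionRing.isAlgebraic_iff' V S T).1 inferInstance
  haveI : Algebra.IsAlgebraic L T := Algebra.IsAlgebraic.extendScalars (R := V) (IsFractionRing.injective V L)
  haveI : IsIntegralHom (Spec.map (CommRingCat.ofHom (algebraMap L T))) :=
    IsIntegralHom.SpecMap_iff.2 (Algebra.IsAlgebraic.isIntegral (K := L) (A := T)).isIntegral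
  have hT : CdLE ℓ (Spec (CommRingCat.of T)) d := hd.of_integral (Spec.map (CommRingCat.ofHom (algebraMap L T)))
  have huS : IsUnit (ℓ : S) := by
    simpa using (((hu.map (algebraMap A O)).map (algebraMap O B)).map (algebraMap B V)).map (algebraMap V S)
  -- the residue field
  let f₁ : Q.ResidueField →+* B ⧸ M := Ideal.quotientMap M (algebraMap O B) hMc.ge
  have hf₁ : f₁.Finite := by
    have h1 : (Ideal.quotientMap M (algebraMap O B) le_rfl).Finite := RingHom.finite_algebraMap.2 (hfin M hMmax)
    rw [show f₁ = (Ideal.quotientMap M (algebraMap O B) le_rfl).comp (Ideal.quotEquivOfEq hMc.symm).toRingHom from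
      Ideal.Quotient.ringHom_ext (RingHom.ext fun x => rfl)]
    exact h1.comp (RingHom.Finite.of_surjective (Ideal.quotEquivOfEq hMc.symm).toRingHom
      (Ideal.quotEquivOfEq hMc.symm).surjective)
  let e₂ : (B ⧸ M) ≃+* ResidueField V := IsLocalization.AtPrime.equivQuotMaximalIdeal M V
  let f : Q.ResidueField →+* ResidueField S :=
    ((ResidueField.map (algebraMap V S)).comp e₂.toRingHom).comp f₁
  have hf : f.Finite := by
    refine RingHom.Finite.comp ?_ hf₁
    exact RingHom.Finite.of_surjective _ (hres.2.comp e₂.surjective)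
  obtain ⟨h1, h2⟩ := cdLE_residue hℓ S huS hT
  exact ⟨ResidueField S, inferInstance, f, hf, h1, h2⟩

set_option maxHeartbeats 1000000 in
/-- The dimension is bounded by the cohomological dimension of the fraction field. -/
theorem length_le_of_cd {ℓ : ℕ} (hℓ : ℓ.Prime) : ∀ (m : ℕ) (A : Type u) [CommRing A] [IsDomain A] [IsNoetherianRing A],
    IsUnit (ℓ : A) →
      ∀ d, CdLE ℓ (Spec (CommRingCat.of (FractionRing A))) d → (m : WithBot ℕ∞) ≤ ringKrullDim A → m ≤ d
  | 0, A, _, _, _, _, d, _, _ => Nat.zero_le d
  | m + 1, A, _, _, _, hu, d, hd, hm => by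
    classical
    obtain ⟨l, hl⟩ := Order.le_krullDim_iff.1 hm
    have hp0 : (l ⟨1, by omega⟩).asIdeal ≠ ⊥ := fun h => by
      have := l.strictMono (show (⟨0, by omega⟩ : Fin (l.length + 1)) < ⟨1, by omega⟩ from Fin.mk_lt_mk.2 one_pos)
      have h' : (l ⟨0, by omega⟩).asIdeal < (l ⟨1, by omega⟩).asIdeal := this
      rw [h] at h'
      exact not_lt_bot h'
    obtain ⟨a, ha, ha0⟩ := Submodule.exists_mem_ne_zero_of_ne_bot hp0
    obtain ⟨Q, hQ, hQle⟩ := Ideal.exists_minimalPrimes_le
      (I := Ideal.span {a}) (J := (l ⟨1, by omega⟩).asIdeal) ((Ideal.span_singleton_le_iff_mem _).2 ha)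
    haveI := hQ.1.1
    have hQ1 : Q.height = 1 := by
      refine le_antisymm (Ideal.height_le_one_of_isPrincipal_of_mem_minimalPrimes _ Q hQ) ?_
      rw [Order.one_le_iff_pos, pos_iff_ne_zero, Ne, Ideal.height_eq_zero_iff]
      intro hmin
      rw [IsDomain.minimalPrimes_eq_singleton_bot] at hmin
      exact ha0 (Ideal.mem_bot.1 (hmin ▸ hQ.1.2 (Ideal.mem_span_singleton_self a)))
    obtain ⟨E, _, f, hf, h1, hE⟩ := exists_residue_extension hℓ A hu hd Q hQ1
    -- a finite model of `E`
    let A₁ := A ⧸ Q
    letI : Algebra A₁ E := (f.comp (algebraMap A₁ Q.ResidueField)).toAlgebra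
    letI : Algebra Q.ResidueField E := f.toAlgebra
    haveI : IsScalarTower A₁ Q.ResidueField E := IsScalarTower.of_algebraMap_eq' rfl
    haveI : Module.Finite Q.ResidueField E := hf
    haveI : Algebra.IsAlgebraic A₁ E := by
      haveI : Algebra.IsAlgebraic Q.ResidueField E := inferInstance
      exact (IsFractionRing.comap_isAlgebraic_iff (K := Q.ResidueField)).2 inferInstance
    obtain ⟨s, b, hb⟩ := FiniteDimensional.exists_is_basis_integral A₁ Q.ResidueField E
    let B : Subalgebra A₁ E := Algebra.adjoin A₁ (Set.range b)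
    haveI : Module.Finite A₁ B := Algebra.finite_adjoin_of_finite_of_isIntegral (Set.finite_range b) fun x hx => by
      obtain ⟨i, rfl⟩ := hx
      exact hb i
    haveI : IsNoetherianRing B := IsNoetherianRing.of_finite A₁ B
    have hinj : Function.Injective (algebraMap A₁ B) := fun x y hxy => IsFractionRing.injective A₁ Q.ResidueField
      (f.injective (congrArg Subtype.val hxy))
    haveI : IsFractionRing B E := by
      refine IsFractionRing.of_field (R := B) (K := E) fun z => ?_
      obtain ⟨⟨c, hc⟩, hcz⟩ := IsLocalization.exist_integer_multiples_of_finite (nonZeroDivisors A₁)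
        (fun i => b.repr z i)
      choose r hr using hcz
      refine ⟨∑ i, r i • ⟨b i, Algebra.subset_adjoin ⟨i, rfl⟩⟩, algebraMap A₁ B c, ?_⟩
      have hc0 : algebraMap A₁ E c ≠ 0 := fun h => nonZeroDivisors.ne_zero hc
        (hinj (Subtype.val_injective (h.trans (map_zero (algebraMap A₁ E)).symm)))
      rw [eq_div_iff (show algebraMap B E (algebraMap A₁ B c) ≠ 0 from hc0)]
      show z * algebraMap A₁ E c = ((∑ i, r i • (⟨b i, _⟩ : B) : B) : E)
      conv_lhs => rw [← b.sum_repr z, Finset.sum_mul]
      rw [AddSubmonoidClass.coe_finsetSum]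
      refine Finset.sum_congr rfl fun i _ => ?_
      rw [SetLike.val_smul, Algebra.smul_def, Algebra.smul_def, IsScalarTower.algebraMap_apply A₁ Q.ResidueField E (r i),
        hr i, Algebra.smul_def, map_mul, ← IsScalarTower.algebraMap_apply]
      ring
    have hdim : (m : WithBot ℕ∞) ≤ ringKrullDim B := by
      rw [Groth.L22.AffineDim.ringKrullDim_eq_of_isIntegral hinj, ringKrullDim_quotient]
      have hrange : ∀ i : Fin (m + 1),
          (if i.val = 0 then (⟨Q, inferInstance⟩ : PrimeSpectrum A) else l ⟨i.val + 1, by omega⟩) ∈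
            PrimeSpectrum.zeroLocus (Q : Set A) := fun i => by
        split
        · exact (le_rfl : Q ≤ Q)
        · exact (hQle.trans (l.strictMono.monotone (show (⟨1, by omega⟩ : Fin (l.length + 1)) ≤ ⟨i.val + 1, by omega⟩
            from Fin.mk_le_mk.2 (by omega))) : Q ≤ _)
      let l' : LTSeries (PrimeSpectrum.zeroLocus (Q : Set A)) := LTSeries.mk m (fun i => ⟨_, hrange i⟩) (by
        refine Fin.strictMono_iff_lt_succ.2 fun i => ?_
        show (if (i.castSucc : Fin (m + 1)).val = 0 then (⟨Q, inferInstance⟩ : PrimeSpectrum A)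
          else l ⟨(i.castSucc : Fin (m + 1)).val + 1, by omega⟩) <
          (if (i.succ : Fin (m + 1)).val = 0 then (⟨Q, inferInstance⟩ : PrimeSpectrum A)
            else l ⟨(i.succ : Fin (m + 1)).val + 1, by omega⟩)
        rw [if_neg (show ¬ (i.succ : Fin (m + 1)).val = 0 by simp)]
        split
        · refine lt_of_le_of_lt (b := l ⟨1, by omega⟩) hQle (l.strictMono (Fin.mk_lt_mk.2 ?_))
          simp
        · exact l.strictMono (Fin.mk_lt_mk.2 (by simp)))
      exact le_iSup (fun p : LTSeries (PrimeSpectrum.zeroLocus (Q : Set A)) => (p.length : WithBot ℕ∞)) l'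
    have hFB : CdLE ℓ (Spec (CommRingCat.of (FractionRing B))) (d - 1) :=
      hE.of_integral (Spec.map (FractionRing.algEquiv B E).symm.toRingEquiv.toCommRingCatIso.hom)
    have huB : IsUnit (ℓ : B) := by
      simpa using (hu.map (Ideal.Quotient.mk Q)).map (algebraMap A₁ B)
    have := length_le_of_cd hℓ m B huB (d - 1) hFB hdim
    omega

end Groth.L28.CdLower
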