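import Groth.Agent.L28.CdLower.Residue
import Groth.Agent.L28.CdLower.Lift
import Groth.Agent.L28.FieldCd.Main
import Groth.Agent.L28.Pts.Basic
import Mathlib.FieldTheory.IsSepClosed

/-! # The residue field of a henselian discrete valuation ring has smaller cohomological dimension -/

set_option autoImplicit false
set_option linter.style.haveILetI false
set_option linter.unusedSectionVars false
set_option backward.isDefEq.respectTransparency.types false

universe u

open CategoryTheory CategoryTheory.Limits AlgebraicGeometry Opposite IsLocalRing GrothendieckTopology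

noncomputable section

namespace Groth.L28.CdLower

open Groth.L27

/-- The criterion with constant coefficients. -/
theorem cdLE_of_const {ℓ : ℕ} (hℓ : ℓ.Prime) (K : Type u) [Field K] (d : ℕ)
    (h : ∀ (E : Type u) [Field E] [Algebra K E] [FiniteDimensional K E] [Algebra.IsSeparable K E],
      Subsingleton (EtCoh.H (Spec (CommRingCat.of E)) (EtCoh.const (Spec (CommRingCat.of E)) (ZMod ℓ)) (d + 1))) :
    FieldTower.CdLE ℓ (Spec (CommRingCat.of K)) d := by
  haveI : Fact ℓ.Prime := ⟨hℓ⟩
  intro F hF q hq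
  refine Devissage.of_constructible hℓ q (fun C _ hC => subsingleton_of_forall_eq 0 fun x => ?_) F hF
  refine FieldCd.cd_le K ℓ d (fun G hG => FieldCd.eq_zero_of_prime_to K ℓ (d + 1) (fun E _ _ _ _ _ => h E) G hG) C
    (AffineEfface.isTorsion_of_isLTorsion
      (DerBC.Killed.isLTorsion ⟨ℓ ^ 1, FinCovCrit.primesIn_pow hℓ 1, by rwa [pow_one]⟩)) q hq x ⟨1, ?_⟩
  rw [pow_one]
  exact (Groth.L28.EtTrace.comp_mk₀_nsmul ℓ q x).symm.trans
    (by rw [hC, Abelian.Ext.mk₀_zero, Abelian.Ext.comp_zero])

/-- Constant sheaves have nonzero sections. -/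
theorem not_subsingleton_H_const_zero (E : Type u) [Field E] (n : ℕ) (hn : n ≠ 1) :
    ¬ Subsingleton (EtCoh.H (Spec (CommRingCat.of E)) (EtCoh.const (Spec (CommRingCat.of E)) (ZMod n)) 0) := by
  intro h
  let X := Spec (CommRingCat.of E)
  let Ω := SeparableClosure E
  let ξ : Spec (CommRingCat.of Ω) ⟶ X := Spec.map (CommRingCat.ofHom (algebraMap E Ω))
  let M := AddCommGrpCat.of (ULift.{u + 1} (ZMod n))
  let Φ := Scheme.pointSmallEtale ξ
  have hW : X.smallEtaleTopology.W.IsInvertedBy (Φ.presheafFiber (A := AddCommGrpCat.{u + 1})) :=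
    Point.W_isInvertedBy_presheafFiber' (A := AddCommGrpCat.{u + 1}) Φ
  let e : (EtCoh.stalk ξ).obj (EtCoh.const X (ZMod n)) ≅ M := Pts.sheafFiberConstIso _ hW _
  let y : Φ.fiber.obj (EtCoh.top X) := Over.homMk ξ (Category.comp_id _)
  haveI : Subsingleton ((EtCoh.const X (ZMod n)).obj.obj (op (EtCoh.top X))) :=
    (LimCoh.secEq (EtCoh.const X (ZMod n))).symm.toEquiv.subsingleton
  have h1 : e.hom (Φ.toPresheafFiber (EtCoh.top X) y (EtCoh.const X (ZMod n)).obj
      (Pts.constSect (J := X.smallEtaleTopology) M (EtCoh.top X) ⟨1⟩)) = (⟨1⟩ : ULift.{u + 1} (ZMod n)) :=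
    ConcreteCategory.congr_hom (Pts.constSect_sheafFiberConstIso_hom Φ hW M (EtCoh.top X) y) ⟨1⟩
  rw [show Pts.constSect (J := X.smallEtaleTopology) M (EtCoh.top X) (⟨1⟩ : ULift.{u + 1} (ZMod n)) = 0 from
    Subsingleton.elim _ _, map_zero] at h1
  replace h1 : (0 : ULift.{u + 1} (ZMod n)) = ⟨1⟩ := e.addCommGroupIsoToAddEquiv.map_zero.symm.trans h1
  have h2 : (0 : ZMod n) = 1 := congrArg ULift.down h1
  rcases n with _ | n
  · exact absurd h2 (by decide)
  · have h3 : ((1 : ℕ) : ZMod (n + 1)) = 0 := by simpa using h2.symm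
    rw [ZMod.natCast_eq_zero_iff] at h3
    exact hn (Nat.dvd_one.1 h3)

set_option maxHeartbeats 1000000 in
/-- One step: vanishing for the residue field in degree above `m` follows from the fraction field. -/
theorem subsingleton_H_ext {ℓ : ℕ} (hℓ : ℓ.Prime) (R : Type u) [CommRing R] [IsDomain R] [IsDiscreteValuationRing R]
    [HenselianLocalRing R] (hu : IsUnit (ℓ : R)) {d : ℕ}
    (hK : FieldTower.CdLE ℓ (Spec (CommRingCat.of (FractionRing R))) d) (m : ℕ) (hd : d ≤ m)
    (E : Type u) [Field E] [Algebra (ResidueField R) E] [FiniteDimensional (ResidueField R) E]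
    [Algebra.IsSeparable (ResidueField R) E] :
    Subsingleton (EtCoh.H (Spec (CommRingCat.of E)) (EtCoh.const (Spec (CommRingCat.of E)) (ZMod ℓ)) m) := by
  obtain ⟨S, _, _, _, _, _, _, _, ⟨eE⟩⟩ := exists_lift R E
  let X := Spec (CommRingCat.of S)
  have huS : IsUnit (ℓ : S) := by simpa using hu.map (algebraMap R S)
  let L := (Spec (CommRingCat.of S)).functionField
  haveI : IsDomain (CommRingCat.of S) := ‹IsDomain S›
  letI : Algebra S L := instAlgebraCarrierFunctionFieldSpec (CommRingCat.of S)
  haveI : IsFractionRing S L := functionField_isFractionRing_of_affine (CommRingCat.of S)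
  letI : Algebra R L := ((algebraMap S L).comp (algebraMap R S)).toAlgebra
  haveI : IsScalarTower R S L := IsScalarTower.of_algebraMap_eq' rfl
  haveI : FaithfulSMul R L := (faithfulSMul_iff_algebraMap_injective R L).2
    ((IsFractionRing.injective S L).comp (FaithfulSMul.algebraMap_injective R S))
  letI : Algebra (FractionRing R) L := FractionRing.liftAlgebra R L
  haveI : IsScalarTower R (FractionRing R) L := FractionRing.isScalarTower_liftAlgebra R L
  haveI : Algebra.IsAlgebraic R S := inferInstance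
  haveI : Module.IsTorsionFree R L := inferInstance
  haveI : Algebra.IsAlgebraic R L := (IsFractionRing.isAlgebraic_iff' R S L).1 inferInstance
  haveI : Algebra.IsAlgebraic (FractionRing R) L := Algebra.IsAlgebraic.extendScalars (IsFractionRing.injective R _)
  haveI : Algebra.IsIntegral (FractionRing R) L := Algebra.IsAlgebraic.isIntegral
  let π : Spec (X.presheaf.stalk (genericPoint X)) ⟶ Spec (CommRingCat.of (FractionRing R)) :=
    Spec.map (CommRingCat.ofHom (algebraMap (FractionRing R) L))
  haveI : IsIntegralHom π := IsIntegralHom.SpecMap_iff.2 (Algebra.IsIntegral.isIntegral)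
  have hlt : EtAcyc.IsLTorsion {ℓ} (EtCoh.mu (Spec (X.presheaf.stalk (genericPoint X))) ℓ) :=
    DerBC.Killed.isLTorsion ⟨ℓ ^ 1, FinCovCrit.primesIn_pow hℓ 1, by rw [pow_one]; exact nsmul_id_mu _ ℓ⟩
  have h := subsingleton_H_residue S hℓ huS (hK.of_integral π _ hlt (m + 2) (by omega))
    (hK.of_integral π _ hlt (m + 1) (by omega))
  let rE : (X.presheaf.stalk (closedPoint S) : Type u) ≃+* S :=
    (AlgebraicGeometry.stalkClosedPointIso (CommRingCat.of S)).commRingCatIsoToRingEquiv
  let e : X.residueField (closedPoint S) ≅ CommRingCat.of E :=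
    ((IsLocalRing.ResidueField.mapEquiv rE).trans eE).toCommRingCatIso
  let i : Spec (CommRingCat.of E) ⟶ Spec (X.residueField (closedPoint S)) := Spec.map e.hom
  haveI : IsIso i := inferInstanceAs (IsIso (Spec.map e.hom))
  exact subsingleton_H_const_of_iso i _ m h

/-- The residue field of a henselian discrete valuation ring. -/
theorem cdLE_residue {ℓ : ℕ} (hℓ : ℓ.Prime) (R : Type u) [CommRing R] [IsDomain R] [IsDiscreteValuationRing R]
    [HenselianLocalRing R] (hu : IsUnit (ℓ : R)) {d : ℕ}
    (hK : FieldTower.CdLE ℓ (Spec (CommRingCat.of (FractionRing R))) d) :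
    1 ≤ d ∧ FieldTower.CdLE ℓ (Spec (CommRingCat.of (ResidueField R))) (d - 1) := by
  have h1 : 1 ≤ d := Nat.one_le_iff_ne_zero.2 fun hd =>
    not_subsingleton_H_const_zero (ResidueField R) ℓ hℓ.one_lt.ne'
      (subsingleton_H_ext hℓ R hu hK 0 (by omega) (ResidueField R))
  exact ⟨h1, cdLE_of_const hℓ _ (d - 1) fun E _ _ _ _ => subsingleton_H_ext hℓ R hu hK (d - 1 + 1) (by omega) E⟩

end Groth.L28.CdLower
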