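import Groth.Agent.L28.CdLower.Chain
import Groth.Agent.L28.Serre.Main
import Mathlib.RingTheory.Ideal.Quotient.Operations
import Mathlib.RingTheory.Localization.FractionRing

/-! # The residue field of a local ring has smaller cohomological dimension -/

set_option autoImplicit false
set_option linter.style.haveILetI false
set_option linter.unusedSectionVars false
set_option backward.isDefEq.respectTransparency.types false

universe u

open CategoryTheory AlgebraicGeometry IsLocalRing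

noncomputable section

namespace Groth.L28.CdLower

open Groth.L28.FieldTower

theorem cdLE_mono {ℓ d d' : ℕ} {X : Scheme.{u}} (h : CdLE ℓ X d) (hd : d ≤ d') : CdLE ℓ X d' :=
  fun F hF q hq => h F hF q (by omega)

theorem cdLE_of_ringEquiv {ℓ d : ℕ} {K L : Type u} [Field K] [Field L] (e : K ≃+* L)
    (h : CdLE ℓ (Spec (CommRingCat.of K)) d) : CdLE ℓ (Spec (CommRingCat.of L)) d :=
  cdLE_of_finite K L e.toRingHom (RingHom.Finite.of_surjective _ e.surjective) h

variable {ℓ : ℕ} (hℓ : ℓ.Prime) {A : Type u} [CommRing A] [IsNoetherianRing A]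
  (hord : ℓ ≠ 2 ∨ ∀ p : PrimeSpectrum A, ¬ ∃ _ : LinearOrder (FractionRing (A ⧸ p.asIdeal)),
    IsStrictOrderedRing (FractionRing (A ⧸ p.asIdeal)))

include hℓ hord in
set_option maxHeartbeats 1000000 in
/-- One step down: a prime just above. -/
theorem cdLE_of_height_one (hu : IsUnit (ℓ : A)) (p Q : Ideal A) [p.IsPrime] [Q.IsPrime] (hpQ : p ≤ Q)
    (hQ : (Q.map (Ideal.Quotient.mk p)).height = 1) {d : ℕ}
    (h : CdLE ℓ (Spec (CommRingCat.of (FractionRing (A ⧸ p)))) d) :
    1 ≤ d ∧ CdLE ℓ (Spec (CommRingCat.of (FractionRing (A ⧸ Q)))) (d - 1) := by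
  haveI : (Q.map (Ideal.Quotient.mk p)).IsPrime :=
    Ideal.map_isPrime_of_surjective Ideal.Quotient.mk_surjective (by rw [Ideal.mk_ker]; exact hpQ)
  have hu' : IsUnit (ℓ : A ⧸ p) := by simpa using hu.map (Ideal.Quotient.mk p)
  obtain ⟨E, _, f, hf, h1, hE⟩ := exists_residue_extension hℓ (A ⧸ p) hu' h (Q.map (Ideal.Quotient.mk p)) hQ
  refine ⟨h1, ?_⟩
  let e : FractionRing (A ⧸ Q) ≃+* (Q.map (Ideal.Quotient.mk p)).ResidueField :=
    IsFractionRing.ringEquivOfRingEquiv (DoubleQuot.quotQuotEquivQuotOfLE hpQ).symm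
  refine Serre.cdLE_of_finite_extension hℓ _ E (f.comp e.toRingHom)
    (hf.comp (RingHom.Finite.of_surjective _ e.surjective)) ?_ hE
  exact hord.imp id fun h => h ⟨Q, inferInstance⟩

include hℓ hord in
set_option maxHeartbeats 1000000 in
/-- The residue field of a Noetherian local ring: `cd κ + dim A/p ≤ cd κ(p)`. -/
theorem le_cd_residue [IsLocalRing A] (hu : IsUnit (ℓ : A)) (p : Ideal A) [hp : p.IsPrime] {d : ℕ}
    (h : CdLE ℓ (Spec (CommRingCat.of (FractionRing (A ⧸ p)))) d) :
    ∀ m : ℕ, (m : WithBot ℕ∞) ≤ ringKrullDim (A ⧸ p) →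
      m ≤ d ∧ CdLE ℓ (Spec (CommRingCat.of (ResidueField A))) (d - m) := by
  classical
  revert hp d
  induction p using WellFoundedGT.induction with
  | _ p ih =>
  intro hp d h m hm
  by_cases hmax : p = maximalIdeal A
  · subst hmax
    haveI := hp
    have h0 : ringKrullDim (A ⧸ maximalIdeal A) = 0 :=
      ringKrullDim_eq_zero_of_isField ((Ideal.Quotient.maximal_ideal_iff_isField_quotient _).1 inferInstance)
    have hm0 : m = 0 := by rw [h0] at hm; exact_mod_cast Nat.le_zero.1 (by exact_mod_cast hm)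
    subst hm0
    refine ⟨Nat.zero_le d, ?_⟩
    letI := Ideal.Quotient.field (maximalIdeal A)
    let e : FractionRing (A ⧸ maximalIdeal A) ≃+* ResidueField A :=
      (FractionRing.algEquiv (A ⧸ maximalIdeal A) (A ⧸ maximalIdeal A)).toRingEquiv
    exact cdLE_of_ringEquiv e h
  · haveI := hp
    let π := Ideal.Quotient.mk p
    have hker : RingHom.ker π = p := Ideal.mk_ker
    -- a chain of positive length
    obtain ⟨l, hl⟩ : ∃ l : LTSeries (PrimeSpectrum (A ⧸ p)), max m 1 ≤ l.length := by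
      rcases Nat.eq_zero_or_pos m with rfl | hm'
      · have hnf : (⊥ : Ideal (A ⧸ p)) ≠ maximalIdeal (A ⧸ p) := fun e => hmax (by
          have h1 : (maximalIdeal (A ⧸ p)).comap π = maximalIdeal A :=
            IsLocalRing.eq_maximalIdeal (Ideal.comap_isMaximal_of_surjective π Ideal.Quotient.mk_surjective)
          rw [← h1, ← e]
          exact Ideal.mk_ker.symm)
        have hlt : (⟨⊥, Ideal.isPrime_bot⟩ : PrimeSpectrum (A ⧸ p)) < ⟨maximalIdeal (A ⧸ p), inferInstance⟩ :=
          lt_of_le_of_ne bot_le fun e => hnf (congrArg PrimeSpectrum.asIdeal e)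
        exact ⟨(RelSeries.singleton _ (⟨maximalIdeal (A ⧸ p), inferInstance⟩ : PrimeSpectrum (A ⧸ p))).cons _ hlt,
          le_of_eq (by simp)⟩
      · obtain ⟨l, hl⟩ := Order.le_krullDim_iff.1 hm
        exact ⟨l, by omega⟩
    have hlen : 1 < l.length + 1 := by omega
    have hq0 : (l ⟨1, hlen⟩).asIdeal ≠ ⊥ := fun e => by
      have h' : (l ⟨0, by omega⟩).asIdeal < (l ⟨1, hlen⟩).asIdeal :=
        l.strictMono (show (⟨0, by omega⟩ : Fin (l.length + 1)) < ⟨1, hlen⟩ from Fin.mk_lt_mk.2 one_pos)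
      rw [e] at h'
      exact not_lt_bot h'
    obtain ⟨a, ha, ha0⟩ := Submodule.exists_mem_ne_zero_of_ne_bot hq0
    obtain ⟨Q', hQ', hQle⟩ := Ideal.exists_minimalPrimes_le
      (I := Ideal.span {a}) (J := (l ⟨1, hlen⟩).asIdeal) ((Ideal.span_singleton_le_iff_mem _).2 ha)
    haveI := hQ'.1.1
    have hQ1 : Q'.height = 1 := by
      refine le_antisymm (Ideal.height_le_one_of_isPrincipal_of_mem_minimalPrimes _ Q' hQ') ?_
      rw [Order.one_le_iff_pos, pos_iff_ne_zero, Ne, Ideal.height_eq_zero_iff]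
      intro hmin
      rw [IsDomain.minimalPrimes_eq_singleton_bot] at hmin
      exact ha0 (Ideal.mem_bot.1 (hmin ▸ hQ'.1.2 (Ideal.mem_span_singleton_self a)))
    let Q := Q'.comap π
    haveI : Q.IsPrime := Ideal.IsPrime.comap π
    have hpQ : p ≤ Q := by rw [← hker]; exact Ideal.comap_mono bot_le
    have hmap : Q.map π = Q' := Ideal.map_comap_of_surjective π Ideal.Quotient.mk_surjective Q'
    have hlt : p < Q := lt_of_le_of_ne hpQ fun e => ha0 (by
      have : a ∈ Q' := hQ'.1.2 (Ideal.mem_span_singleton_self a)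
      obtain ⟨b, rfl⟩ := Ideal.Quotient.mk_surjective a
      exact Ideal.Quotient.eq_zero_iff_mem.2 (e ▸ (show b ∈ Q from this)))
    obtain ⟨h1, h2⟩ := cdLE_of_height_one hℓ hord hu p Q hpQ (by rw [hmap]; exact hQ1) h
    have hdim : ((l.length - 1 : ℕ) : WithBot ℕ∞) ≤ ringKrullDim (A ⧸ Q) := by
      rw [ringKrullDim_quotient]
      have hmem : ∀ i : Fin (l.length - 1 + 1),
          Q ≤ (l ⟨i.1 + 1, by omega⟩).asIdeal.comap π := fun i =>
        Ideal.comap_mono (hQle.trans (l.monotone (Fin.mk_le_mk.2 (by omega))))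
      let l' : LTSeries (PrimeSpectrum.zeroLocus (Q : Set A)) := LTSeries.mk (l.length - 1)
        (fun i => ⟨PrimeSpectrum.comap π (l ⟨i.1 + 1, by omega⟩), hmem i⟩) (fun i j hij => by
          have h' : (l ⟨i.1 + 1, by omega⟩).asIdeal < (l ⟨j.1 + 1, by omega⟩).asIdeal :=
            l.strictMono (Fin.mk_lt_mk.2 (by omega))
          show (l ⟨i.1 + 1, _⟩).asIdeal.comap π < (l ⟨j.1 + 1, _⟩).asIdeal.comap π
          exact lt_of_le_of_ne (Ideal.comap_mono h'.le) fun e => h'.ne
            (Ideal.comap_injective_of_surjective π Ideal.Quotient.mk_surjective e))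
      exact le_iSup (fun q : LTSeries (PrimeSpectrum.zeroLocus (Q : Set A)) => (q.length : WithBot ℕ∞)) l'
    obtain ⟨h3, h4⟩ := ih Q hlt h2 (l.length - 1) hdim
    exact ⟨by omega, cdLE_mono h4 (by omega)⟩

end Groth.L28.CdLower
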