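import Groth.Agent.L28.CdLower.DvrModel
import Groth.Agent.L28.DimClosure.Sch
import Groth.Agent.L23.StalkBranch
import Mathlib.RingTheory.Localization.Away.Basic

/-! # Strict localisations of schemes of finite type over a discrete valuation ring -/

set_option autoImplicit false
set_option linter.style.haveILetI false
set_option linter.unusedSectionVars false
set_option backward.isDefEq.respectTransparency.types false

universe u

open CategoryTheory AlgebraicGeometry IsLocalRing

noncomputable section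

namespace Groth.L28.CdLower

open Groth.L28.FieldTower

theorem isOpenImmersion_fraction (V : Type u) [CommRing V] [IsDomain V] [IsDiscreteValuationRing V] {ϖ : V}
    (hϖ : Irreducible ϖ) :
    IsOpenImmersion (Spec.map (CommRingCat.ofHom (algebraMap V (FractionRing V)))) ∧
      Set.range (Spec.map (CommRingCat.ofHom (algebraMap V (FractionRing V)))) =
        (PrimeSpectrum.basicOpen ϖ : Set (PrimeSpectrum V)) := by
  haveI : IsLocalization.Away ϖ (FractionRing V) := by
    refine { map_units := ?_, surj := fun z => ?_, exists_of_eq := fun {a b} hab => ⟨1, ?_⟩ }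
    · rintro ⟨_, n, rfl⟩
      exact isUnit_iff_ne_zero.2 fun h0 => pow_ne_zero n hϖ.ne_zero
        (IsFractionRing.injective V (FractionRing V) (h0.trans (map_zero _).symm))
    · obtain ⟨⟨a, b, hb⟩, h⟩ := IsLocalization.surj (nonZeroDivisors V) z
      obtain ⟨n, v, rfl⟩ := IsDiscreteValuationRing.eq_unit_mul_pow_irreducible (nonZeroDivisors.ne_zero hb) hϖ
      refine ⟨(a * (↑v⁻¹ : V), ⟨ϖ ^ n, n, rfl⟩), ?_⟩
      simp only [map_mul] at h ⊢
      rw [← h, mul_assoc, mul_comm (algebraMap V (FractionRing V) (v : V)), mul_assoc, ← map_mul, Units.mul_inv,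
        map_one, mul_one]
    · rw [IsFractionRing.injective V (FractionRing V) hab]
  exact ⟨IsOpenImmersion.of_isLocalization ϖ, PrimeSpectrum.localization_away_comap_range (FractionRing V) ϖ⟩

set_option maxHeartbeats 1000000 in
/-- Residue fields of a strict localisation over the closed point. -/
theorem cdLE_quot_closed {ℓ : ℕ} (hℓ : ℓ.Prime) (V : Type u) [CommRing V] [IsDomain V] [IsDiscreteValuationRing V]
    (hℓV : IsUnit (ℓ : V)) (X : Scheme.{u}) (f : X ⟶ Spec (CommRingCat.of V)) [LocallyOfFiniteType f] (x : X)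
    (hx : f.base x = ((closedPoint V : PrimeSpectrum V) : ↥(Spec (CommRingCat.of V))))
    (R : Type u) [CommRing R] [IsLocalRing R] [Algebra (X.presheaf.stalk x) R]
    [IsLocalHom (algebraMap (X.presheaf.stalk x) R)] [Hensel.IsStrictHenselization (X.presheaf.stalk x) R]
    (d : ℕ) (hd : ringKrullDim R ≤ d) (P : Ideal R) [P.IsPrime] :
    CdLE ℓ (Spec (CommRingCat.of (FractionRing (R ⧸ P)))) d := by
  obtain ⟨σ, _, p, _, hp, Rh, _, _, _, _, hRh, X', f', _, _, x', hx', hfx', _, _, hS⟩ :=
    Groth.Agent.L28.SHClosed.exists_model V f x hx R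
  obtain ⟨_, _⟩ := Groth.Agent.L28.SHClosed.isDVR_of_dvr V σ p hp Rh
  have huO : IsUnit (ℓ : Rh) := by
    simpa using (hℓV.map ((algebraMap (MvPolynomial σ V) (Localization.AtPrime p)).comp MvPolynomial.C)).map
      (algebraMap (Localization.AtPrime p) Rh)
  obtain ⟨U, hU, hxU, -⟩ :=
    exists_isAffineOpen_mem_and_subset (X := X') (x := x') (U := ⊤) (TopologicalSpace.Opens.mem_top x')
  have le : U ≤ f' ⁻¹ᵁ ⊤ := le_top
  let B := Γ(X', U)
  letI : Algebra Rh B := (Groth.Agent.L28.DimClosure.sect f' U).toAlgebra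
  haveI : Algebra.FiniteType Rh B :=
    RingHom.finiteType_algebraMap.mp ((LocallyOfFiniteType.finiteType_appLE f' (isAffineOpen_top _) hU le).comp
      (RingHom.FiniteType.of_surjective _
        ((Scheme.ΓSpecIso (CommRingCat.of Rh)).symm.commRingCatIsoToRingEquiv.surjective)))
  let O := X'.presheaf.stalk x'
  letI : Algebra B O := (X'.presheaf.germ U x' hxU).hom.toAlgebra
  let q₀ := (hU.primeIdealOf ⟨x', hxU⟩).asIdeal
  haveI : IsLocalization.AtPrime O q₀ := hU.isLocalization_stalk ⟨x', hxU⟩
  haveI hmax : q₀.IsMaximal := by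
    have h1 : IsClosed ({(⟨x', hxU⟩ : U)} : Set U) := by
      rw [show ({(⟨x', hxU⟩ : U)} : Set U) = Subtype.val ⁻¹' {x'} from Set.ext fun w => Subtype.ext_iff]
      exact hx'.preimage continuous_subtype_val
    have h2 : IsClosed ({hU.primeIdealOf ⟨x', hxU⟩} : Set (PrimeSpectrum B)) := by
      have := hU.isoSpec.hom.homeomorph.isClosedMap ({(⟨x', hxU⟩ : U)} : Set U) h1
      exact (congrArg IsClosed Set.image_singleton).mp this
    exact (PrimeSpectrum.isClosed_singleton_iff_isMaximal _).1 h2
  have hq₀ : q₀.comap (algebraMap Rh B) = maximalIdeal Rh := by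
    ext r
    rw [Ideal.mem_comap]
    show Groth.Agent.L28.DimClosure.sect f' U r ∈ q₀ ↔ _
    rw [← Groth.Agent.L28.DimClosure.mem_asIdeal_iff f' hU hxU r, hfx']
    rfl
  exact cdLE_quot_of_dvr hℓ Rh ⟨hRh.henselian, hRh.isSepClosure.sep_closed⟩ huO B q₀ hq₀ O R d hd P

set_option maxHeartbeats 1000000 in
/-- The case of a discrete valuation ring as base. -/
theorem cd_strictLocalization_dvr {ℓ : ℕ} (hℓ : ℓ.Prime) (V : Type u) [CommRing V] [IsDomain V]
    [IsDiscreteValuationRing V] (hℓV : IsUnit (ℓ : V)) (X : Scheme.{u}) (f : X ⟶ Spec (CommRingCat.of V))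
    [LocallyOfFiniteType f] (x : X) (R : Type u) [CommRing R] [IsLocalRing R] [Algebra (X.presheaf.stalk x) R]
    [IsLocalHom (algebraMap (X.presheaf.stalk x) R)] [hR : Hensel.IsStrictHenselization (X.presheaf.stalk x) R]
    (d : ℕ) :
    (∀ P ∈ minimalPrimes R, CdLE ℓ (Spec (CommRingCat.of (FractionRing (R ⧸ P)))) d) ↔ ringKrullDim R ≤ d := by
  haveI : IsLocallyNoetherian X := LocallyOfFiniteType.isLocallyNoetherian f
  haveI : IsNoetherianRing R :=
    (Groth.L05.Henselization.isNoetherianRing_iff_strict (X.presheaf.stalk x) R).1 inferInstance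
  by_cases hx : f.base x = ((closedPoint V : PrimeSpectrum V) : ↥(Spec (CommRingCat.of V)))
  · refine ⟨fun hd => ?_, fun hd P hP => ?_⟩
    · refine ringKrullDim_le_of_cd hℓ R ?_ hd
      have hu : IsUnit (ℓ : Γ(X, ⊤)) := by
        simpa using (hℓV.map (Scheme.ΓSpecIso (CommRingCat.of V)).inv.hom).map f.appTop.hom
      simpa using (hu.map (X.presheaf.germ ⊤ x trivial).hom).map (algebraMap (X.presheaf.stalk x) R)
    · haveI := hP.1.1
      exact cdLE_quot_closed hℓ V hℓV X f x hx R d hd P
  · obtain ⟨ϖ, hϖ⟩ := IsDiscreteValuationRing.exists_irreducible V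
    obtain ⟨hj, hrange⟩ := isOpenImmersion_fraction V hϖ
    haveI := hj
    let j := Spec.map (CommRingCat.ofHom (algebraMap V (FractionRing V)))
    let U : X.Opens := f ⁻¹ᵁ j.opensRange
    have hxU : x ∈ U := by
      show f.base x ∈ Set.range j.base
      rw [hrange]
      show ϖ ∉ (f.base x).asIdeal
      intro hm
      refine hx (PrimeSpectrum.ext (IsLocalRing.eq_maximalIdeal (Ideal.IsPrime.isMaximal (f.base x).2 ?_)))
      exact fun h0 => hϖ.ne_zero (Ideal.mem_bot.1 (h0 ▸ hm))
    have hsub : Set.range (U.ι ≫ f).base ⊆ Set.range j.base := by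
      rintro _ ⟨z, rfl⟩
      exact z.2
    let fU : (U : Scheme.{u}) ⟶ Spec (CommRingCat.of (FractionRing V)) := IsOpenImmersion.lift j (U.ι ≫ f) hsub
    haveI : LocallyOfFiniteType fU := by
      haveI : LocallyOfFiniteType (fU ≫ j) := by
        rw [IsOpenImmersion.lift_fac]
        infer_instance
      exact locallyOfFiniteType_of_comp fU j
    let x₀ : (U : Scheme.{u}) := ⟨x, hxU⟩
    let e : (U : Scheme.{u}).presheaf.stalk x₀ ≃+* X.presheaf.stalk x := (U.stalkIso x₀).commRingCatIsoToRingEquiv
    letI : Algebra ((U : Scheme.{u}).presheaf.stalk x₀) R :=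
      ((algebraMap (X.presheaf.stalk x) R).comp e.toRingHom).toAlgebra
    haveI : IsLocalHom (algebraMap ((U : Scheme.{u}).presheaf.stalk x₀) R) := ⟨fun a ha => by
      change IsUnit (algebraMap (X.presheaf.stalk x) R (e a)) at ha
      exact (isUnit_map_iff e a).1 (isUnit_of_map_unit (algebraMap (X.presheaf.stalk x) R) _ ha)⟩
    haveI : Hensel.IsStrictHenselization ((U : Scheme.{u}).presheaf.stalk x₀) R :=
      Groth.L23.SH.isStrictHenselization_of_baseEquiv (hT := hR) e fun _ => rfl
    refine cd_strictLocalization_field hℓ (FractionRing V) ?_ (U : Scheme.{u}) fU x₀ R d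
    rw [← map_natCast (algebraMap V (FractionRing V))]
    exact (hℓV.map _).ne_zero

end Groth.L28.CdLower
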