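import Groth.Agent.L28.CdLower.Local
import Groth.Agent.L28.DimClosure.Ring
import Groth.Agent.L28.DeltaStrict.Res
import Groth.Agent.L06.DimLftJacobson
import Groth.Agent.L28.SHClosed.Fibre
import Mathlib.RingTheory.AlgebraicIndependent.TranscendenceBasis

/-! # Strict localisations of schemes of finite type over a strictly henselian discrete valuation ring -/

set_option autoImplicit false
set_option linter.style.haveILetI false
set_option linter.unusedSectionVars false
set_option backward.isDefEq.respectTransparency.types false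

universe u

open CategoryTheory AlgebraicGeometry IsLocalRing

noncomputable section

namespace Groth.L28.CdLower

open Groth.L28.FieldTower

/-- The quotients of the base. -/
theorem exists_base_bound {ℓ : ℕ} (hℓ : ℓ.Prime) (O : Type u) [CommRing O] [IsDomain O] [IsDiscreteValuationRing O]
    (hO : EtCoh.IsStrictlyHenselianLocalRing O) (hu : IsUnit (ℓ : O)) (p : Ideal O) [p.IsPrime] :
    ∃ a : ℕ, ringKrullDim (O ⧸ p) = a ∧ CdLE ℓ (Spec (CommRingCat.of (FractionRing (O ⧸ p)))) a := by
  by_cases hp : p = ⊥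
  · subst hp
    refine ⟨1, ?_, ?_⟩
    · rw [ringKrullDim_eq_of_ringEquiv (RingEquiv.quotientBot O)]
      exact IsPrincipalIdealRing.ringKrullDim_eq_one O (IsDiscreteValuationRing.not_isField O)
    · let e : FractionRing O ≃+* FractionRing (O ⧸ (⊥ : Ideal O)) :=
        IsFractionRing.ringEquivOfRingEquiv (RingEquiv.quotientBot O).symm
      exact (cdLE_one_strict hℓ O hO hu).of_integral (Spec.map e.toCommRingCatIso.hom)
  · have hmax : p.IsMaximal := Ideal.IsPrime.isMaximal inferInstance hp
    haveI := hmax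
    refine ⟨0, ?_, ?_⟩
    · rw [ringKrullDim_eq_zero_of_isField ((Ideal.Quotient.maximal_ideal_iff_isField_quotient p).1 hmax)]
      rfl
    · haveI : IsSepClosed (ResidueField O) := hO.2
      have h0 : CdLE ℓ (Spec (CommRingCat.of (ResidueField O))) 0 := fun G _ r hr => by
        obtain ⟨i, rfl⟩ : ∃ i, r = i + 1 := ⟨r - 1, by omega⟩
        exact CurveCd.subsingleton_H_sepClosed _ G i
      have hF := (Ideal.Quotient.maximal_ideal_iff_isField_quotient p).1 hmax
      have hs : Function.Surjective (algebraMap (O ⧸ p) (FractionRing (O ⧸ p))) :=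
        (IsField.localization_map_bijective zero_notMem_nonZeroDivisors hF).2
      let e : ResidueField O →+* O ⧸ p := (Ideal.quotEquivOfEq (IsLocalRing.eq_maximalIdeal hmax).symm).toRingHom
      exact cdLE_of_finite _ _ ((algebraMap (O ⧸ p) (FractionRing (O ⧸ p))).comp e)
        (RingHom.Finite.of_surjective _ (hs.comp (Ideal.quotEquivOfEq _).surjective)) h0

set_option maxHeartbeats 1000000 in
/-- Every residue field of a strict localisation at a closed point of the closed fibre. -/
theorem cdLE_quot_of_dvr {ℓ : ℕ} (hℓ : ℓ.Prime) (O : Type u) [CommRing O] [IsDomain O] [IsDiscreteValuationRing O]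
    (hO : EtCoh.IsStrictlyHenselianLocalRing O) (hu : IsUnit (ℓ : O))
    (B : Type u) [CommRing B] [Algebra O B] [Algebra.FiniteType O B] (q₀ : Ideal B) [q₀.IsMaximal]
    (hq₀ : q₀.comap (algebraMap O B) = maximalIdeal O)
    (S : Type u) [CommRing S] [IsLocalRing S] [Algebra B S] [IsLocalization.AtPrime S q₀]
    (R : Type u) [CommRing R] [IsLocalRing R] [Algebra S R] [IsLocalHom (algebraMap S R)]
    [Hensel.IsStrictHenselization S R]
    (d : ℕ) (hd : ringKrullDim R ≤ d) (P : Ideal R) [P.IsPrime] :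
    CdLE ℓ (Spec (CommRingCat.of (FractionRing (R ⧸ P)))) d := by
  haveI : IsNoetherianRing B := Algebra.FiniteType.isNoetherianRing O B
  haveI : IsNoetherianRing S := IsLocalization.isNoetherianRing q₀.primeCompl S inferInstance
  let pS : Ideal S := P.comap (algebraMap S R)
  haveI : P.LiesOver pS := ⟨rfl⟩
  let q : Ideal B := pS.comap (algebraMap B S)
  let p₀ : Ideal O := q.comap (algebraMap O B)
  haveI : q.LiesOver p₀ := ⟨rfl⟩
  haveI : pS.LiesOver q := ⟨rfl⟩
  let O₁ := O ⧸ p₀
  let B₁ := B ⧸ q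
  haveI : Algebra.FiniteType O₁ B₁ := Algebra.FiniteType.of_restrictScalars_finiteType O _ _
  haveI : FaithfulSMul O₁ B₁ := (faithfulSMul_iff_algebraMap_injective _ _).mpr Ideal.algebraMap_quotient_injective
  haveI : IsLocalRing O₁ := IsLocalRing.of_surjective' (Ideal.Quotient.mk p₀) Ideal.Quotient.mk_surjective
  have hcat : CAlg.IsUniversallyCatenary O₁ :=
    Groth.Agent.L28.DimClosure.isUniversallyCatenary_quotient (Groth.L06.DimLftJacobson.isUniversallyCatenary_of_regularLocal O) p₀
  obtain ⟨a, ha, hcd⟩ := exists_base_bound hℓ O hO hu p₀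
  obtain ⟨b, hb⟩ := Cardinal.lt_aleph0.1 (trdeg_lt_aleph0_of_finiteType (R := O₁) (S := B₁))
  have hqle : q ≤ q₀ := by
    refine (Ideal.comap_mono (IsLocalRing.le_maximalIdeal (Ideal.IsPrime.ne_top inferInstance))).trans ?_
    exact (IsLocalization.AtPrime.under_maximalIdeal S q₀).le
  let Q : Ideal B₁ := q₀.map (Ideal.Quotient.mk q)
  haveI : Q.IsMaximal :=
    Ideal.IsMaximal.map_of_surjective_of_ker_le Ideal.Quotient.mk_surjective (by rwa [Ideal.mk_ker])
  obtain ⟨h, hh, h1, -⟩ := Groth.Agent.L28.DimClosure.height_maximal hcat B₁ a b ha hb Q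
  have hQc : Q.comap (algebraMap O₁ B₁) = maximalIdeal O₁ := by
    refine Ideal.comap_injective_of_surjective (Ideal.Quotient.mk p₀) Ideal.Quotient.mk_surjective ?_
    have e1 : (Q.comap (algebraMap O₁ B₁)).comap (Ideal.Quotient.mk p₀) = q₀.comap (algebraMap O B) := by
      show ((q₀.map (Ideal.Quotient.mk q)).comap (algebraMap O₁ B₁)).comap (Ideal.Quotient.mk p₀) = _
      rw [Ideal.comap_comap, show (algebraMap O₁ B₁).comp (Ideal.Quotient.mk p₀) =
        (Ideal.Quotient.mk q).comp (algebraMap O B) from rfl, ← Ideal.comap_comap,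
        Ideal.comap_map_of_surjective _ Ideal.Quotient.mk_surjective, ← RingHom.ker_eq_comap_bot, Ideal.mk_ker,
        sup_eq_left.2 hqle]
    rw [e1, hq₀]
    haveI : IsLocalHom (Ideal.Quotient.mk p₀) := IsLocalHom.of_surjective _ Ideal.Quotient.mk_surjective
    exact (IsLocalRing.maximalIdeal_comap (Ideal.Quotient.mk p₀)).symm
  have hab : a + b ≤ d := by
    have h2 : Q.height ≤ q₀.height := by
      rw [PrimeSpectrum.height_eq_orderHeight ⟨Q, inferInstance⟩, PrimeSpectrum.height_eq_orderHeight ⟨q₀, inferInstance⟩]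
      refine le_trans (Order.height_le_height_apply_of_strictMono (PrimeSpectrum.comap (Ideal.Quotient.mk q))
        (Monotone.strictMono_of_injective (fun x y hxy => Ideal.comap_mono hxy)
          (PrimeSpectrum.comap_injective_of_surjective _ Ideal.Quotient.mk_surjective)) ⟨Q, inferInstance⟩)
        (Order.height_mono ?_)
      show Q.comap (Ideal.Quotient.mk q) ≤ q₀
      rw [Ideal.comap_map_of_surjective _ Ideal.Quotient.mk_surjective, ← RingHom.ker_eq_comap_bot, Ideal.mk_ker,
        sup_eq_left.2 hqle]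
    have h3 : (q₀.height : WithBot ℕ∞) ≤ d := by
      rw [← IsLocalization.AtPrime.ringKrullDim_eq_height q₀ S, ← Groth.L05.Henselization.ringKrullDim_strict S R]
      exact hd
    have h4 : (Q.height : WithBot ℕ∞) ≤ d := le_trans (WithBot.coe_le_coe.2 h2) h3
    rw [hh, h1 hQc] at h4
    exact_mod_cast h4
  -- the field
  let L := FractionRing (R ⧸ P)
  haveI : Algebra.IsAlgebraic (S ⧸ pS) (R ⧸ P) := Groth.Agent.L28.DeltaStrict.isAlgebraic_quotient_strict S R pS P
  haveI : FaithfulSMul B₁ (S ⧸ pS) := (faithfulSMul_iff_algebraMap_injective _ _).mpr Ideal.algebraMap_quotient_injective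
  haveI : FaithfulSMul (S ⧸ pS) (R ⧸ P) :=
    (faithfulSMul_iff_algebraMap_injective _ _).mpr Ideal.algebraMap_quotient_injective
  letI : Algebra B₁ L := ((algebraMap (S ⧸ pS) L).comp (algebraMap B₁ (S ⧸ pS))).toAlgebra
  haveI : IsScalarTower B₁ (S ⧸ pS) L := IsScalarTower.of_algebraMap_eq' rfl
  letI : Algebra O₁ L := ((algebraMap B₁ L).comp (algebraMap O₁ B₁)).toAlgebra
  haveI : IsScalarTower O₁ B₁ L := IsScalarTower.of_algebraMap_eq' rfl
  haveI : FaithfulSMul (S ⧸ pS) L := (faithfulSMul_iff_algebraMap_injective _ _).mpr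
    ((IsFractionRing.injective (R ⧸ P) L).comp (FaithfulSMul.algebraMap_injective _ _))
  haveI : FaithfulSMul B₁ L := (faithfulSMul_iff_algebraMap_injective _ _).mpr
    ((FaithfulSMul.algebraMap_injective (S ⧸ pS) L).comp (FaithfulSMul.algebraMap_injective _ _))
  haveI : FaithfulSMul O₁ L := (faithfulSMul_iff_algebraMap_injective _ _).mpr
    ((FaithfulSMul.algebraMap_injective B₁ L).comp (FaithfulSMul.algebraMap_injective _ _))
  haveI : Module.IsTorsionFree (S ⧸ pS) L := inferInstance
  haveI : Algebra.IsAlgebraic (S ⧸ pS) L := (IsFractionRing.isAlgebraic_iff' (S ⧸ pS) (R ⧸ P) L).1 inferInstance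
  haveI : Algebra.IsAlgebraic B₁ (S ⧸ pS) := ⟨fun x => by
    obtain ⟨s, rfl⟩ := Ideal.Quotient.mk_surjective x
    obtain ⟨⟨y, c⟩, e⟩ := IsLocalization.surj q₀.primeCompl s
    have hc : Ideal.Quotient.mk q (c : B) ≠ 0 := fun h0 => c.2 (hqle (Ideal.Quotient.eq_zero_iff_mem.1 h0))
    refine ⟨Polynomial.C (Ideal.Quotient.mk q (c : B)) * Polynomial.X - Polynomial.C (Ideal.Quotient.mk q y),
      fun h0 => hc (by simpa using congrArg (fun f => Polynomial.coeff f 1) h0), ?_⟩
    simp only [map_sub, map_mul, Polynomial.aeval_C, Polynomial.aeval_X]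
    rw [sub_eq_zero]
    have := congrArg (Ideal.Quotient.mk pS) e
    rw [map_mul, mul_comm] at this
    exact this⟩
  haveI : Algebra.IsAlgebraic B₁ L := Algebra.IsAlgebraic.trans B₁ (S ⧸ pS) L
  let K := FractionRing O₁
  haveI : IsDomain O₁ := inferInstance
  letI : Algebra K L := FractionRing.liftAlgebra O₁ L
  haveI : IsScalarTower O₁ K L := FractionRing.isScalarTower_liftAlgebra O₁ L
  haveI : FaithfulSMul O₁ K := (faithfulSMul_iff_algebraMap_injective _ _).mpr (IsFractionRing.injective O₁ K)
  haveI : Algebra.IsAlgebraic O₁ K := IsLocalization.isAlgebraic _ (nonZeroDivisors O₁)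
  have htr : Algebra.trdeg K L = b := by
    have h1 := trdeg_add_eq O₁ B₁ (A := L)
    have h2 := trdeg_add_eq O₁ K (A := L)
    rw [trdeg_eq_zero (R := B₁) (A := L), add_zero, hb] at h1
    rw [trdeg_eq_zero (R := O₁) (A := K), zero_add] at h2
    exact h2.trans h1.symm
  intro G hG r hr
  exact cdLE_of_trdeg hℓ b K L htr a hcd G hG r (by omega)

end Groth.L28.CdLower
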