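import Groth.Agent.L28.FieldTower.Base
import Groth.Agent.L28.CurveCd.Biprod
import Groth.Agent.L27.CompTransfer.Edge
import Groth.Agent.L27.InjPush.Basic

/-! # The last edge map for a direct image with two higher terms -/

set_option autoImplicit false
set_option linter.style.haveILetI false
set_option linter.unusedSectionVars false
set_option backward.isDefEq.respectTransparency.types false

universe u

open CategoryTheory CategoryTheory.Limits AlgebraicGeometry Opposite

noncomputable section

namespace Groth.L28.CdLower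

open Groth.L27 Groth.L27.LimCoh

variable {X Y : Scheme.{u}} (j : X ⟶ Y) [PreservesFiniteLimits (EtCoh.pull j)]

/-- The cokernel of a pushed epimorphism has no cohomology in the top degree. -/
theorem subsingleton_H_cokernel {E : ShortComplex (EtCoh.Ab X)} (hE : E.ShortExact) [Injective E.X₂]
    (hR : ∀ q : ℕ, 2 ≤ q → IsZero ((EtCoh.Rpush j q).obj E.X₁)) (d : ℕ)
    (hX : Subsingleton (EtCoh.H X E.X₁ (d + 1)))
    (hY : Subsingleton (EtCoh.H Y ((EtCoh.push j).obj E.X₁) (d + 2))) :
    Subsingleton (EtCoh.H Y (cokernel ((EtCoh.push j).map E.g)) d) := by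
  let ψ := (EtCoh.push j).map E.g
  haveI : PreservesFiniteLimits (EtCoh.push j) := Devissage.preservesFiniteLimits_push j
  haveI : (EtCoh.push j).PreservesInjectiveObjects :=
    Functor.preservesInjectiveObjects_of_adjunction_of_preservesMonomorphisms (EtCoh.pullPushAdj j)
  haveI := hE.mono_f
  let T : ShortComplex (EtCoh.Ab Y) :=
    ShortComplex.mk ((EtCoh.push j).map E.f) (Abelian.factorThruImage ψ) (by
      rw [← cancel_mono (Abelian.image.ι ψ), Category.assoc, Abelian.image.fac, zero_comp, ← Functor.map_comp,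
        E.zero, Functor.map_zero])
  haveI : Mono T.f := inferInstanceAs (Mono ((EtCoh.push j).map E.f))
  haveI : Epi T.g := inferInstanceAs (Epi (Abelian.factorThruImage ψ))
  haveI : Injective T.X₂ := (EtCoh.push j).injective_obj E.X₂
  have hTs : T.ShortExact :=
    { exact := by
        let T' : ShortComplex (EtCoh.Ab Y) := ShortComplex.mk ((EtCoh.push j).map E.f) ψ
          (by rw [← Functor.map_comp, E.zero, Functor.map_zero])
        have hK : IsLimit (KernelFork.ofι T'.f T'.zero) := KernelFork.mapIsLimit _ hE.fIsKernel (EtCoh.push j)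
        refine ShortComplex.exact_of_f_is_kernel _ (KernelFork.IsLimit.ofι' _ T.zero fun {A} a ha =>
          KernelFork.IsLimit.lift' hK a ?_)
        show a ≫ ψ = 0
        rw [← Abelian.image.fac ψ, ← Category.assoc, ha, zero_comp] }
  have hI : Subsingleton (EtCoh.H Y T.X₃ (d + 1)) := subsingleton_of_forall_eq 0 fun z => by
    obtain ⟨w, rfl⟩ := exists_map_of_δH_eq_zero hTs (d + 1) z (@Subsingleton.elim _ hY _ _)
    rw [eq_zero_of_injective T.X₂ d w]
    exact map_zero ((EtCoh.HF Y (d + 1)).map T.g).hom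
  let E₂ : ShortComplex (EtCoh.Ab Y) :=
    ShortComplex.mk (Abelian.image.ι ψ) (cokernel.π ψ) (kernel.condition _)
  have hE₂ : E₂.ShortExact :=
    { exact := ShortComplex.exact_of_f_is_kernel _ (kernelIsKernel _)
      mono_f := inferInstanceAs (Mono (Abelian.image.ι ψ))
      epi_g := inferInstanceAs (Epi (cokernel.π ψ)) }
  refine subsingleton_of_forall_eq 0 fun z => ?_
  obtain ⟨w, rfl⟩ := exists_map_of_δH_eq_zero hE₂ d z (@Subsingleton.elim _ hI _ _)
  obtain ⟨e, he⟩ := exists_map_of_δH_eq_zero hE d (EtLim.HofPush j E.X₃ d w) (@Subsingleton.elim _ hX _ _)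
  obtain ⟨e', rfl⟩ := CompTransfer.surjective_HofPush_injective j E.X₂ d e
  have hRC : ∀ q : ℕ, 0 < q → IsZero ((EtCoh.Rpush j q).obj E.X₃) := by
    intro q hq
    haveI := HasDerivedCategory.standard (EtCoh.Ab X)
    haveI := L00.RDerLES.epi_map_g (S := EtCoh.push j) hE q (hR (q + 1) (by omega))
    exact IsZero.of_epi ((EtCoh.Rpush j q).map E.g) (InjPush.isZero_Rpush_injective j E.X₂ q hq)
  have hw : w = (EtCoh.HF Y d).map ψ e' := (EtSite.bijective_HofPush j E.X₃ hRC d).1 (by
    rw [HofPush_map]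
    exact he.symm)
  rw [hw, ← HF_map_comp, cokernel.condition]
  rw [show (EtCoh.HF Y d).map (0 : (EtCoh.push j).obj E.X₂ ⟶ cokernel ψ) = 0 from
    (haveI := CurveCd.isAdditive_HF' (X := Y) d; Functor.map_zero _ _ _)]
  rfl

/-- A morphism of short exact sequences which is the identity on the left gives an isomorphism of the
cokernels, if the first higher direct image of the middle term vanishes. -/
theorem isIso_cokernel_map {S E : ShortComplex (EtCoh.Ab X)} (hS : S.ShortExact) (hE : E.ShortExact)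
    (a : S.X₁ ≅ E.X₁) (b : S.X₂ ⟶ E.X₂) (c : S.X₃ ⟶ E.X₃) (h₁ : S.f ≫ b = a.hom ≫ E.f)
    (h₂ : S.g ≫ c = b ≫ E.g) (hR : IsZero ((EtCoh.Rpush j 1).obj S.X₂))
    (w : (EtCoh.push j).map S.g ≫ (EtCoh.push j).map c = (EtCoh.push j).map b ≫ (EtCoh.push j).map E.g) :
    IsIso (cokernel.map ((EtCoh.push j).map S.g) ((EtCoh.push j).map E.g) ((EtCoh.push j).map b)
      ((EtCoh.push j).map c) w) := by
  haveI : PreservesFiniteLimits (EtCoh.push j) := Devissage.preservesFiniteLimits_push j
  haveI := hS.mono_f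
  haveI := hS.epi_g
  haveI := hE.mono_f
  haveI := hE.epi_g
  let p := (EtCoh.push j)
  haveI : p.Additive := (EtCoh.pullPushAdj j).right_adjoint_additive
  let B := E.X₂ ⊞ S.X₃
  let U : ShortComplex (EtCoh.Ab X) := ShortComplex.mk
    (biprod.lift (-b) S.g) (biprod.desc E.g c : B ⟶ E.X₃)
    (by rw [biprod.lift_desc, Preadditive.neg_comp, h₂, neg_add_cancel])
  have hU : U.ShortExact :=
    { exact := by
        refine ShortComplex.exact_iff_exact_up_to_refinements U |>.2 fun {A} x hx => ?_
        obtain ⟨x₂, x₃, rfl⟩ : ∃ (x₂ : A ⟶ E.X₂) (x₃ : A ⟶ S.X₃), x = biprod.lift x₂ x₃ :=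
          ⟨x ≫ biprod.fst, x ≫ biprod.snd, by apply biprod.hom_ext <;> simp⟩
        have hx' : x₂ ≫ E.g + x₃ ≫ c = 0 := by
          simpa [U] using hx
        obtain ⟨A₁, π, _, y, hy⟩ := surjective_up_to_refinements_of_epi S.g x₃
        have hz : (π ≫ x₂ + y ≫ b) ≫ E.g = 0 := by
          rw [Preadditive.add_comp, Category.assoc, Category.assoc, ← h₂, ← Category.assoc y, ← hy, Category.assoc,
            ← Preadditive.comp_add, hx', comp_zero]
        let m := hE.exact.lift (π ≫ x₂ + y ≫ b) hz
        have hm : m ≫ E.f = π ≫ x₂ + y ≫ b := hE.exact.lift_f _ _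
        refine ⟨A₁, π, inferInstance, y - m ≫ a.inv ≫ S.f, ?_⟩
        apply biprod.hom_ext
        · show (π ≫ biprod.lift x₂ x₃) ≫ biprod.fst = ((y - m ≫ a.inv ≫ S.f) ≫ biprod.lift (-b) S.g) ≫ biprod.fst
          rw [Category.assoc, Category.assoc, biprod.lift_fst, biprod.lift_fst, Preadditive.sub_comp,
            Preadditive.comp_neg, Category.assoc, Category.assoc, Preadditive.comp_neg, h₁,
            Preadditive.comp_neg, Iso.inv_hom_id_assoc, Preadditive.comp_neg, hm]
          abel
        · show (π ≫ biprod.lift x₂ x₃) ≫ biprod.snd = ((y - m ≫ a.inv ≫ S.f) ≫ biprod.lift (-b) S.g) ≫ biprod.snd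
          rw [Category.assoc, Category.assoc, biprod.lift_snd, biprod.lift_snd, Preadditive.sub_comp,
            Category.assoc, Category.assoc, S.zero, comp_zero, comp_zero, sub_zero, hy]
      mono_f := by
        refine Preadditive.mono_of_cancel_zero _ fun {A} x hx => ?_
        have hg : x ≫ S.g = 0 := by
          simpa [U] using congrArg (· ≫ biprod.snd) hx
        have hb : x ≫ b = 0 := by
          simpa [U] using congrArg (· ≫ biprod.fst) hx
        obtain ⟨m, hm⟩ : ∃ m, m ≫ S.f = x := ⟨hS.exact.lift x hg, hS.exact.lift_f _ _⟩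
        rw [← hm, Category.assoc, h₁, ← Category.assoc] at hb
        have : m ≫ a.hom = 0 := (cancel_mono E.f).1 (by rw [hb, zero_comp])
        rw [← hm, (cancel_mono a.hom).1 (this.trans zero_comp.symm), zero_comp]
      epi_g := epi_of_epi_fac (show biprod.inl ≫ U.g = E.g from biprod.inl_desc _ _) }
  have hepi : Epi (p.map U.g) := by
    haveI := HasDerivedCategory.standard (EtCoh.Ab X)
    haveI := L00.RDerLES.epi_map_g (S := p) hU 0 hR
    have hn := p.rightDerivedZeroIsoSelf.hom.naturality U.g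
    have he : Epi ((p.rightDerived 0).map U.g ≫ p.rightDerivedZeroIsoSelf.hom.app U.X₃) := inferInstance
    rw [hn] at he
    exact epi_of_epi (p.rightDerivedZeroIsoSelf.hom.app U.X₂) (p.map U.g)
  let ψS := p.map S.g
  let ψE := p.map E.g
  let T : cokernel ψS ⟶ cokernel ψE := cokernel.map ψS ψE (p.map b) (p.map c)
    (by rw [← Functor.map_comp, ← Functor.map_comp, h₂])
  have hker : ∀ {A : EtCoh.Ab Y} (k : A ⟶ p.obj U.X₂), k ≫ p.map U.g = 0 →
      k ≫ p.map biprod.snd ≫ cokernel.π ψS = 0 := by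
    intro A k hk
    let U' : ShortComplex (EtCoh.Ab Y) := U.map p
    haveI := hU.mono_f
    have hK : IsLimit (KernelFork.ofι (p.map U.f) (U.map p).zero) := KernelFork.mapIsLimit _ hU.fIsKernel p
    obtain ⟨l, hl⟩ := KernelFork.IsLimit.lift' hK k hk
    rw [← hl]
    show (l ≫ p.map U.f) ≫ p.map biprod.snd ≫ cokernel.π ψS = 0
    rw [Category.assoc, ← Functor.map_comp_assoc, show U.f ≫ biprod.snd = S.g from biprod.lift_snd _ _,
      show p.map S.g = ψS from rfl, cokernel.condition, comp_zero]
  let φ : p.obj E.X₃ ⟶ cokernel ψS :=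
    Abelian.epiDesc (p.map U.g) (p.map biprod.snd ≫ cokernel.π ψS) (hker _ (kernel.condition _))
  have hφ : p.map U.g ≫ φ = p.map biprod.snd ≫ cokernel.π ψS := Abelian.comp_epiDesc _ _ _
  have hψ : ψE ≫ φ = 0 := by
    rw [show ψE = p.map biprod.inl ≫ p.map U.g from by rw [← Functor.map_comp, biprod.inl_desc],
      Category.assoc, hφ, ← Functor.map_comp_assoc, biprod.inl_snd, Functor.map_zero, zero_comp]
  show IsIso T
  refine ⟨⟨cokernel.desc ψE φ hψ, ?_, ?_⟩⟩
  · rw [← cancel_epi (cokernel.π ψS), cokernel.π_desc_assoc, Category.assoc, cokernel.π_desc,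
      show p.map c = p.map biprod.inr ≫ p.map U.g from by rw [← Functor.map_comp, biprod.inr_desc],
      Category.assoc, hφ, ← Functor.map_comp_assoc, biprod.inr_snd, CategoryTheory.Functor.map_id, Category.id_comp,
      Category.comp_id]
  · rw [← cancel_epi (cokernel.π ψE), cokernel.π_desc_assoc, Category.comp_id, ← cancel_epi (p.map U.g),
      reassoc_of% hφ, cokernel.π_desc]
    have hsum : U.g = biprod.fst ≫ E.g + biprod.snd ≫ c := biprod.desc_eq
    conv_rhs => rw [hsum, Functor.map_add, Preadditive.add_comp, Functor.map_comp, Functor.map_comp,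
      Category.assoc, Category.assoc, cokernel.condition (f := p.map E.g), comp_zero, zero_add]

theorem exists_cokernel_iso {S E : ShortComplex (EtCoh.Ab X)} (hS : S.ShortExact) (hE : E.ShortExact)
    (a : S.X₁ ≅ E.X₁) (b : S.X₂ ⟶ E.X₂) (c : S.X₃ ⟶ E.X₃) (h₁ : S.f ≫ b = a.hom ≫ E.f)
    (h₂ : S.g ≫ c = b ≫ E.g) (hR : IsZero ((EtCoh.Rpush j 1).obj S.X₂)) :
    Nonempty (cokernel ((EtCoh.push j).map S.g) ≅ cokernel ((EtCoh.push j).map E.g)) := by
  have w : (EtCoh.push j).map S.g ≫ (EtCoh.push j).map c = (EtCoh.push j).map b ≫ (EtCoh.push j).map E.g :=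
    ((Functor.map_comp _ _ _).symm.trans (congrArg (EtCoh.push j).map h₂)).trans (Functor.map_comp _ _ _)
  haveI := isIso_cokernel_map j hS hE a b c h₁ h₂ hR w
  exact ⟨asIso (cokernel.map ((EtCoh.push j).map S.g) ((EtCoh.push j).map E.g) ((EtCoh.push j).map b)
    ((EtCoh.push j).map c) w)⟩

end Groth.L28.CdLower
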