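import Groth.Agent.L28.Divisor.Iso
import Groth.Agent.L28.GmTorsion.Basic
import Groth.Agent.L27.EtSite.Push
import Groth.Agent.L28.Devissage.Basic
import Groth.Agent.L05.CurveNorm.Scheme
import Mathlib.RingTheory.KrullDimension.PID

/-! # The divisor sheaf of a discrete valuation ring and its quotient by a prime -/

set_option autoImplicit false
set_option linter.style.haveILetI false
set_option linter.unusedSectionVars false
set_option backward.isDefEq.respectTransparency.types false

universe u v w

open CategoryTheory CategoryTheory.Limits AlgebraicGeometry Opposite IsLocalRing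

noncomputable section

namespace Groth.L28.CdLower

open Groth.L27

/-- Cokernels of multiplication by `n` do not see a subobject divisible by `n`. -/
theorem nonempty_cokernel_nsmul {C : Type u} [Category.{v} C] [Abelian C] {A B : C} (φ : A ⟶ B) (n : ℕ)
    [Epi (n • 𝟙 A)] : Nonempty (cokernel (n • 𝟙 B) ≅ cokernel (n • 𝟙 (cokernel φ))) := by
  have hπ : φ ≫ cokernel.π (n • 𝟙 B) = 0 := by
    rw [← cancel_epi (n • 𝟙 A), comp_zero, ← Category.assoc]
    rw [show (n • 𝟙 A) ≫ φ = φ ≫ (n • 𝟙 B) by simp, Category.assoc, cokernel.condition, comp_zero]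
  let inv' : cokernel φ ⟶ cokernel (n • 𝟙 B) := cokernel.desc φ (cokernel.π (n • 𝟙 B)) hπ
  have hinv : (n • 𝟙 (cokernel φ)) ≫ inv' = 0 := by
    rw [← cancel_epi (cokernel.π φ), comp_zero, ← Category.assoc,
      show cokernel.π φ ≫ (n • 𝟙 (cokernel φ)) = (n • 𝟙 B) ≫ cokernel.π φ by simp, Category.assoc]
    rw [cokernel.π_desc, cokernel.condition]
  exact ⟨{
    hom := cokernel.map (n • 𝟙 B) (n • 𝟙 (cokernel φ)) (cokernel.π φ) (cokernel.π φ) (by simp)
    inv := cokernel.desc _ inv' hinv
    hom_inv_id := by
      rw [← cancel_epi (cokernel.π (n • 𝟙 B))]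
      simp [inv']
    inv_hom_id := by
      rw [← cancel_epi (cokernel.π (n • 𝟙 (cokernel φ))), ← cancel_epi (cokernel.π φ)]
      simp [inv'] }⟩

/-- Multiplication by `n` on an object is the map of the functor. -/
theorem nonempty_cokernel_nsmul_congr {C : Type u} [Category.{v} C] [Abelian C] {A B : C} (e : A ≅ B) (n : ℕ) :
    Nonempty (cokernel (n • 𝟙 A) ≅ cokernel (n • 𝟙 B)) :=
  ⟨cokernel.mapIso _ _ e e (by simp)⟩

/-- The cokernel of multiplication by `n` on a pushed constant sheaf `ℤ`. -/
theorem nonempty_cokernel_nsmul_const {Z X : Scheme.{u}} (i : Z ⟶ X) [IsIntegralHom i] (n : ℕ) :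
    Nonempty (cokernel (n • 𝟙 ((EtCoh.push i).obj (EtCoh.const Z ℤ))) ≅
      (EtCoh.push i).obj (EtCoh.const Z (ZMod n))) := by
  let M := AddCommGrpCat.of (ULift.{u + 1} ℤ)
  let f : M ⟶ M := n • 𝟙 M
  let g : M ⟶ AddCommGrpCat.of (ULift.{u + 1} (ZMod n)) :=
    AddCommGrpCat.ofHom (AddMonoidHom.mk' (fun a => ULift.up ((a.down : ℤ) : ZMod n))
      fun a b => ULift.ext _ _ (Int.cast_add a.down b.down))
  have hf : ∀ a : ULift.{u + 1} ℤ, f a = n • a := fun a => by
    let e : (M ⟶ M) →+ ULift.{u + 1} ℤ := AddMonoidHom.mk' (fun k => k a) fun _ _ => rfl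
    exact map_nsmul e n (𝟙 M)
  have w : f ≫ g = 0 := by
    refine ConcreteCategory.hom_ext _ _ fun a => ?_
    show g (f a) = 0
    rw [hf, map_nsmul]
    refine ULift.ext _ _ ?_
    show n • (((a.down : ℤ)) : ZMod n) = 0
    rw [nsmul_eq_mul, ZMod.natCast_self, zero_mul]
  let S := ShortComplex.mk f g w
  haveI : Epi S.g := (AddCommGrpCat.epi_iff_surjective g).2 fun b => by
    obtain ⟨a, ha⟩ := ZMod.intCast_surjective (b : ULift.{u + 1} (ZMod n)).down
    exact ⟨ULift.up a, ULift.ext _ _ ha⟩
  have hS : S.Exact := by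
    refine (ShortComplex.ab_exact_iff _).2 fun (x : ULift.{u + 1} ℤ) hx => ?_
    obtain ⟨c, hc⟩ := (ZMod.intCast_zmod_eq_zero_iff_dvd x.down n).1 (congrArg ULift.down hx)
    refine ⟨ULift.up c, (hf _).trans (ULift.ext _ _ ?_)⟩
    show n • c = x.down
    rw [hc, nsmul_eq_mul]
  let C := constantSheaf Z.smallEtaleTopology AddCommGrpCat.{u + 1}
  haveI : (EtCore.gsec Z).Additive := { }
  haveI : C.Additive := (EtCore.constAdj Z).left_adjoint_additive
  haveI : PreservesColimitsOfSize.{0, 0} C := (EtCore.constAdj Z).leftAdjoint_preservesColimits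
  haveI : Epi (C.map g) := C.map_epi g
  haveI : Epi (S.map C).g := ‹Epi (C.map g)›
  have hC : (S.map C).Exact :=
    ShortComplex.exact_of_g_is_cokernel _ (CokernelCofork.mapIsColimit _ hS.gIsCokernel C)
  let p := EtCoh.push i
  haveI := EtSite.preservesFiniteLimits_pull i
  haveI : p.Additive := (EtCoh.pullPushAdj i).right_adjoint_additive
  haveI := EtSite.preservesEpimorphisms_push i (EtSite.propB_of_isIntegralHom i)
  haveI : PreservesFiniteLimits p := Devissage.preservesFiniteLimits_push i
  haveI : p.PreservesHomology := Functor.preservesHomology_of_preservesEpis_and_kernels _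
  have hP : ((S.map C).map p).Exact := hC.map p
  haveI : Epi ((S.map C).map p).g := inferInstanceAs (Epi (p.map (C.map g)))
  have e : p.map (C.map f) = n • 𝟙 (p.obj (EtCoh.const Z ℤ)) := by
    rw [show f = n • 𝟙 M from rfl, Functor.map_nsmul, Functor.map_nsmul]
    rw [CategoryTheory.Functor.map_id, CategoryTheory.Functor.map_id]
  exact ⟨(cokernelIsoOfEq e).symm ≪≫
    IsColimit.coconePointUniqueUpToIso (cokernelIsCokernel ((S.map C).map p).f) hP.gIsCokernel⟩

variable (R : Type u) [CommRing R] [IsDomain R] [IsDiscreteValuationRing R]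

/-- The divisor sheaf of a discrete valuation ring is supported on the closed point. -/
theorem nonempty_iso_Q :
    Nonempty (Divisor.Q (Spec (CommRingCat.of R)) ≅
      (EtCoh.push ((Spec (CommRingCat.of R)).fromSpecResidueField (closedPoint R))).obj
        (EtCoh.const (Spec ((Spec (CommRingCat.of R)).residueField (closedPoint R))) ℤ)) := by
  let X := Spec (CommRingCat.of R)
  let x₀ : X := closedPoint R
  have hx₀ : IsClosed ({x₀} : Set X) := isClosed_singleton_closedPoint R
  have hdim : topologicalKrullDim X = 1 := by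
    rw [show topologicalKrullDim X = ringKrullDim R from PrimeSpectrum.topologicalKrullDim_eq_ringKrullDim R]
    exact IsPrincipalIdealRing.ringKrullDim_eq_one R (IsDiscreteValuationRing.not_isField R)
  haveI hsub : Subsingleton {x : X // IsClosed ({x} : Set X)} := ⟨fun a b => Subtype.ext (by
    have h : ∀ y : {x : X // IsClosed ({x} : Set X)}, y.1 = x₀ := fun y => by
      have hy := y.2.closure_eq
      exact (Set.mem_singleton_iff.1 (hy ▸ specializes_iff_mem_closure.1 (IsLocalRing.specializes_closedPoint y.1))).symm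
    rw [h a, h b])⟩
  obtain ⟨π, hπ⟩ := IsDiscreteValuationRing.exists_irreducible R
  let t : Γ(X, ⊤) := (Scheme.ΓSpecIso (CommRingCat.of R)).inv π
  have ht : t ≠ 0 := fun h => hπ.ne_zero (by
    have := congrArg (Scheme.ΓSpecIso (CommRingCat.of R)).hom h
    simpa [t] using this)
  have hgerm : ∀ z : X, X.presheaf.germ ⊤ z trivial t =
      algebraMap R ((Spec.structureSheaf R).presheaf.stalk z) π := fun z => rfl
  let C₀ : Divisor.Chart x₀ :=
    { U := ⊤
      hU := isAffineOpen_top X
      hxU := trivial
      t := t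
      ht := ht
      hmax := by
        rw [hgerm]
        haveI : IsLocalization.AtPrime ((Spec.structureSheaf R).presheaf.stalk x₀) x₀.asIdeal := inferInstance
        haveI : IsLocalRing ((Spec.structureSheaf R).presheaf.stalk x₀) :=
          inferInstanceAs (IsLocalRing (X.presheaf.stalk x₀))
        show maximalIdeal ((Spec.structureSheaf R).presheaf.stalk x₀) = _
        rw [← IsLocalization.AtPrime.map_eq_maximalIdeal x₀.asIdeal ((Spec.structureSheaf R).presheaf.stalk x₀),
          show x₀.asIdeal = maximalIdeal R from rfl, hπ.maximalIdeal_eq, Ideal.map_span, Set.image_singleton]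
        rfl
      hunit := fun z _ hz => by
        rw [hgerm]
        refine IsLocalization.map_units ((Spec.structureSheaf R).presheaf.stalk z) (⟨π, fun h => hz ?_⟩ : z.asIdeal.primeCompl)
        refine PrimeSpectrum.ext ?_
        refine IsLocalRing.eq_maximalIdeal (Ideal.IsPrime.isMaximal z.2 fun e => hπ.ne_zero ?_)
        rw [e] at h
        exact h }
  let F := fun x : {x : X // IsClosed ({x} : Set X)} =>
    (EtCoh.push (X.fromSpecResidueField x.1)).obj (EtCoh.const (Spec (X.residueField x.1)) ℤ)
  let d : {x : X // IsClosed ({x} : Set X)} := ⟨x₀, hx₀⟩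
  let c : Cofan F := Cofan.mk (F d) fun x => eqToHom (congrArg F (Subsingleton.elim x d))
  have hc : IsColimit c := Cofan.IsColimit.mk c (fun s => s.inj d)
    (fun s x => by
      obtain rfl : x = d := Subsingleton.elim x d
      exact Category.id_comp _)
    fun s m hm => by
      rw [← hm d]
      exact (Category.id_comp _).symm
  let C : ∀ x : {x : X // IsClosed ({x} : Set X)}, Divisor.Chart x.1 := fun x =>
    (show x₀ = x.1 from congrArg Subtype.val (Subsingleton.elim d x)) ▸ C₀
  choose q hq using fun x => Divisor.exists_desc (C x) x.2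
  have hψ : ∀ x : {x : X // IsClosed ({x} : Set X)},
      (Divisor.skyx x.1 ≫ c.inj x) ≫ Cofan.IsColimit.desc hc q = Divisor.qmap (C x) x.2 := fun x => by
    rw [Category.assoc, Cofan.IsColimit.fac, hq]
  haveI := Divisor.epi_of_fac hdim C _ hψ
  haveI := Divisor.mono_of_fac hdim C _ hψ hc
  exact ⟨(@asIso _ _ _ _ (Cofan.IsColimit.desc hc q) (isIso_of_mono_of_epi _)).symm⟩

end Groth.L28.CdLower
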