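import Groth.Agent.L28.DimFun.Fibre
import Groth.Agent.L28.FieldTower.SepClosed
import Groth.Agent.L28.EtTrace.StrictDVR
import Groth.Agent.L28.GmH1.PointPush
import Groth.Agent.L28.Divisor.Units
import Groth.Agent.L27.StalkRpush.Final
import Groth.Agent.L27.PBC.GeomPoint
import Groth.Agent.L27.InjPush.Basic
import Groth.Agent.L05.Henselization.Strict
import Groth.Agent.L00.RDerLES
import Groth.Agent.S2748
import Groth.Agent.S0538
import Groth.Agent.S0539
import Groth.Agent.S0540
import Mathlib.RingTheory.DiscreteValuationRing.TFAE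

/-! # Higher direct images from the generic point of a curve -/

set_option autoImplicit false
set_option linter.style.haveILetI false
set_option linter.unusedSectionVars false
set_option backward.isDefEq.respectTransparency.types false

universe u

open CategoryTheory CategoryTheory.Limits AlgebraicGeometry Opposite IsLocalRing

noncomputable section

namespace Groth.L28.CdLower

open Groth.L27

/-- The strict henselization of a discrete valuation ring. -/
theorem exists_dvr_strict (O R : Type u) [CommRing O] [IsDomain O] [IsDiscreteValuationRing O] [CommRing R]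
    [IsLocalRing R] [Algebra O R] [IsLocalHom (algebraMap O R)] [Hensel.IsStrictHenselization O R] :
    ∃ _ : IsDomain R, IsDiscreteValuationRing R := by
  haveI : IsDomain R := ((Groth.Agent.S2748.result O R).mpr ⟨inferInstance, inferInstance⟩).1
  haveI : IsNoetherianRing R := (Groth.Agent.S0540.result O R).mp inferInstance
  haveI : Module.FaithfullyFlat O R := Groth.Agent.S0539.result O R
  refine ⟨inferInstance, ?_⟩
  obtain ⟨ϖ, hϖ⟩ := IsDiscreteValuationRing.exists_irreducible O
  have hmax : maximalIdeal R = Ideal.span {algebraMap O R ϖ} := by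
    rw [← Groth.Agent.S0538.result O R, hϖ.maximalIdeal_eq, Ideal.map_span, Set.image_singleton]
  have hne : algebraMap O R ϖ ≠ 0 := fun h =>
    hϖ.ne_zero (FaithfulSMul.algebraMap_injective O R (h.trans (map_zero _).symm))
  have hnf : ¬IsField R := fun hF => by
    rw [IsLocalRing.isField_iff_maximalIdeal_eq, hmax, Ideal.span_singleton_eq_bot] at hF
    exact hne hF
  exact ((IsDiscreteValuationRing.TFAE R hnf).out 0 4 rfl rfl).mpr ⟨⟨_, hmax⟩⟩

/-- The fraction field of a strictly henselian discrete valuation ring. -/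
theorem cdLE_one_strict {ℓ : ℕ} (hℓ : ℓ.Prime) (R : Type u) [CommRing R] [IsDomain R] [IsDiscreteValuationRing R]
    (hR : EtCoh.IsStrictlyHenselianLocalRing R) (hu : IsUnit (ℓ : R)) :
    FieldTower.CdLE ℓ (Spec (CommRingCat.of (FractionRing R))) 1 := by
  obtain ⟨hh, hs⟩ := hR
  haveI : Fact ℓ.Prime := ⟨hℓ⟩
  refine FieldTower.cdLE_one_of_normSurj hℓ _ fun E _ _ _ _ _ => ?_
  obtain ⟨B, _, _, _, _, _, _, _, hB⟩ := EtTrace.exists_integralClosure R (FractionRing R) E
  exact EtTrace.normSurj_fractionField B E ℓ (by simpa using hu.map (algebraMap R B))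

variable {X : Scheme.{u}}

/-- The fibres of the generic point over strictly local schemes of a curve. -/
theorem cdLE_fib_generic [IsIntegral X] [IsLocallyNoetherian X] {ℓ : ℕ} (hℓ : ℓ.Prime)
    (hu : IsUnit (ℓ : Γ(X, ⊤)))
    (hdvr : ∀ y : X, y ≠ genericPoint X → IsDiscreteValuationRing (X.presheaf.stalk y)) (y : X) (R : Type u)
    [CommRing R] [IsLocalRing R] [Algebra (X.presheaf.stalk y) R] [IsLocalHom (algebraMap (X.presheaf.stalk y) R)]
    [hS : Hensel.IsStrictHenselization (X.presheaf.stalk y) R] :
    FieldTower.CdLE ℓ (DimFun.Fib (genericPoint X) y R) 1 := by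
  rcases eq_or_ne y (genericPoint X) with rfl | hy
  · exact fun F hF q hq => DimFun.cdLE_fib_self (genericPoint X) R F hF q (by omega)
  · haveI := hdvr y hy
    obtain ⟨_, hR⟩ := exists_dvr_strict (X.presheaf.stalk y) R
    refine DimFun.cdLE_fib (genericPoint X) y R fun h P hP => ?_
    have hker : RingHom.ker (Cyc.specMap y (genericPoint X) h) = ⊥ := by
      by_contra hne
      have hmax : (RingHom.ker (Cyc.specMap y (genericPoint X) h)).IsMaximal :=
        Ideal.IsPrime.isMaximal inferInstance hne
      have he : (⟨RingHom.ker (Cyc.specMap y (genericPoint X) h), inferInstance⟩ :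
          PrimeSpectrum (X.presheaf.stalk y)) = closedPoint (X.presheaf.stalk y) :=
        PrimeSpectrum.ext (IsLocalRing.eq_maximalIdeal hmax)
      have := DimFun.fromSpecStalk_ker (genericPoint X) y h
      rw [he, Scheme.fromSpecStalk_closedPoint] at this
      exact hy this
    have hP0 : P = ⊥ := by
      rw [hker, Ideal.map_bot] at hP
      exact le_antisymm (hP.2 ⟨Ideal.isPrime_bot, le_rfl⟩ bot_le) bot_le
    subst hP0
    have hu' : IsUnit (ℓ : R) := by
      simpa using (hu.map (X.presheaf.germ ⊤ y trivial).hom).map (algebraMap (X.presheaf.stalk y) R)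
    let e : FractionRing R ≃+* FractionRing (R ⧸ (⊥ : Ideal R)) :=
      IsFractionRing.ringEquivOfRingEquiv (RingEquiv.quotientBot R).symm
    exact (cdLE_one_strict hℓ R ⟨hS.henselian, hS.isSepClosure.sep_closed⟩ hu').of_integral
      (Spec.map e.toCommRingCatIso.hom)

/-- The higher direct images from the generic point vanish above one. -/
theorem isZero_Rpush_gen [IsIntegral X] [IsLocallyNoetherian X] [QuasiCompact (Divisor.gen X)]
    [QuasiSeparated (Divisor.gen X)] {ℓ : ℕ} (hℓ : ℓ.Prime) (hu : IsUnit (ℓ : Γ(X, ⊤)))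
    (hdvr : ∀ y : X, y ≠ genericPoint X → IsDiscreteValuationRing (X.presheaf.stalk y))
    (G : EtCoh.Ab (Spec (X.presheaf.stalk (genericPoint X)))) (hG : EtAcyc.IsLTorsion {ℓ} G) (q : ℕ) (hq : 2 ≤ q) :
    IsZero ((EtCoh.Rpush (Divisor.gen X) q).obj G) := by
  refine (EtSite.isZero_iff_stalks _).2 fun Ω _ _ ξ => ?_
  obtain ⟨R, _, _, _, _, hS⟩ := L05.Henselization.exists_isStrictHenselization (X.presheaf.stalk (ξ.base default))
  haveI : IsSepClosed (IsLocalRing.ResidueField R) := hS.isSepClosure.sep_closed
  obtain ⟨e⟩ := StalkRpush.nonempty_natIso (Divisor.gen X) (ξ.base default) R q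
  refine DimFun.isZero_stalk_of_base (Hens2.geomPt X (ξ.base default) R) ξ (PBC.geomPt_default _ _ R).symm ?_
  refine IsZero.of_iso (@AddCommGrpCat.isZero_of_subsingleton _ ?_) (e.app G)
  let η := genericPoint X
  haveI : IsIso (X.residue η) := (ConcreteCategory.isIso_iff_bijective _).2
    ⟨(X.residue η).hom.injective, X.residue_surjective η⟩
  let i : Spec (X.presheaf.stalk η) ⟶ Spec (X.residueField η) := inv (Spec.map (X.residue η))
  have hi : i ≫ X.fromSpecResidueField η = Divisor.gen X := by
    simp [i, Scheme.fromSpecResidueField, Divisor.gen, η]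
  let m := pullback.map (Divisor.gen X) (Hens2.specOf X (ξ.base default) R) (X.fromSpecResidueField η)
    (Hens2.specOf X (ξ.base default) R) i (𝟙 _) (𝟙 _) (by rw [Category.comp_id, hi]) (by simp)
  haveI : IsIso m := pullback.map_isIso _ _ _ _ _ _ _ _ _
  exact (cdLE_fib_generic hℓ hu hdvr (ξ.base default) R).of_integral m _
    (CompTransfer.isLTorsion_pull _ _ hG) q (by omega)

/-- The first direct image of the multiplicative group from a point. -/
theorem isZero_Rpush_one_Gm {K : Type u} [Field K] (i : Spec (CommRingCat.of K) ⟶ X)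
    (haff : ∀ (W : X.Opens), IsAffineOpen W → IsAffine (i ⁻¹ᵁ W).toScheme) :
    IsZero ((EtCoh.Rpush i 1).obj (EtCoh.Gm (Spec (CommRingCat.of K)))) := by
  obtain ⟨I, Q, f, g, w, hI, hS⟩ := GmH1.exists_embedding (X := Spec (CommRingCat.of K))
  haveI := HasDerivedCategory.standard (EtCoh.Ab (Spec (CommRingCat.of K)))
  haveI := GmH1.push_additive i
  haveI := GmH1.epi_push_map i haff hS
  let p := EtCoh.push i
  haveI : Epi ((p.rightDerived 0).map g) := by
    have hn := p.rightDerivedZeroIsoSelf.hom.naturality g
    have he : Epi (p.rightDerivedZeroIsoSelf.hom.app I ≫ p.map g) := inferInstance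
    rw [← hn] at he
    have he' : Epi (((p.rightDerived 0).map g ≫ p.rightDerivedZeroIsoSelf.hom.app Q) ≫
        p.rightDerivedZeroIsoSelf.inv.app Q) := inferInstance
    rw [Category.assoc, ← NatTrans.comp_app, Iso.hom_inv_id, NatTrans.id_app, Category.comp_id] at he'
    exact he'
  exact L00.RDerLES.isZero_X₁ p hS 0 (InjPush.isZero_Rpush_injective i I 1 le_rfl)

end Groth.L28.CdLower
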