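import Groth.Agent.L28.CdLower.Edge
import Groth.Agent.L28.CdLower.Vanish
import Groth.Agent.L28.CdLower.Quot
import Groth.Agent.L28.DivGen.Germ
import Groth.Agent.L27.HenselClosed.Main

/-! # The composed connecting maps of the Gysin sequence vanish -/

set_option autoImplicit false
set_option linter.style.haveILetI false
set_option linter.unusedSectionVars false
set_option backward.isDefEq.respectTransparency.types false

universe u v w

open CategoryTheory CategoryTheory.Limits AlgebraicGeometry Opposite IsLocalRing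

noncomputable section

namespace Groth.L28.CdLower

open Groth.L27 Groth.L27.LimCoh
open Groth.L27.MV (oE oTop oHom)

section Cat

variable {C : Type u} [Category.{v} C] [Abelian C]

/-- The two short exact pieces of a morphism: image and cokernel. -/
abbrev imSeq {A B : C} (ψ : A ⟶ B) : ShortComplex C :=
  ShortComplex.mk (Abelian.image.ι ψ) (cokernel.π ψ) (kernel.condition _)

theorem shortExact_imSeq {A B : C} (ψ : A ⟶ B) : (imSeq ψ).ShortExact :=
  { exact := ShortComplex.exact_of_f_is_kernel _ (kernelIsKernel _)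
    mono_f := inferInstanceAs (Mono (Abelian.image.ι ψ))
    epi_g := inferInstanceAs (Epi (cokernel.π ψ)) }

/-- The kernel piece of a morphism. -/
abbrev kerSeq {K A B : C} (f : K ⟶ A) (ψ : A ⟶ B) (h : f ≫ ψ = 0) : ShortComplex C :=
  ShortComplex.mk f (Abelian.factorThruImage ψ) (by
    rw [← cancel_mono (Abelian.image.ι ψ), Category.assoc, Abelian.image.fac, h, zero_comp])

theorem shortExact_kerSeq {K A B : C} (f : K ⟶ A) [Mono f] (ψ : A ⟶ B) (h : f ≫ ψ = 0)
    (hK : IsLimit (KernelFork.ofι f h)) : (kerSeq f ψ h).ShortExact := by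
  haveI : Mono (kerSeq f ψ h).f := ‹Mono f›
  haveI : Epi (kerSeq f ψ h).g := inferInstanceAs (Epi (Abelian.factorThruImage ψ))
  exact { exact := ShortComplex.exact_of_f_is_kernel _ (KernelFork.IsLimit.ofι' _ _ fun {T} a ha =>
    KernelFork.IsLimit.lift' hK a (by rw [← Abelian.image.fac ψ, ← Category.assoc, ha, zero_comp])) }

/-- The map of images. -/
def imMap {A B A' B' : C} (ψ : A ⟶ B) (ψ' : A' ⟶ B') (b : A ⟶ A') (c : B ⟶ B') (w : ψ ≫ c = b ≫ ψ') :
    Abelian.image ψ ⟶ Abelian.image ψ' :=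
  kernel.map (cokernel.π ψ) (cokernel.π ψ') c (cokernel.map ψ ψ' b c w) (cokernel.π_desc _ _ _)

theorem imMap_ι {A B A' B' : C} (ψ : A ⟶ B) (ψ' : A' ⟶ B') (b : A ⟶ A') (c : B ⟶ B') (w : ψ ≫ c = b ≫ ψ') :
    imMap ψ ψ' b c w ≫ Abelian.image.ι ψ' = Abelian.image.ι ψ ≫ c :=
  kernel.lift_ι _ _ _

theorem factorThru_imMap {A B A' B' : C} (ψ : A ⟶ B) (ψ' : A' ⟶ B') (b : A ⟶ A') (c : B ⟶ B')
    (w : ψ ≫ c = b ≫ ψ') : Abelian.factorThruImage ψ ≫ imMap ψ ψ' b c w = b ≫ Abelian.factorThruImage ψ' := by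
  rw [← cancel_mono (Abelian.image.ι ψ'), Category.assoc, Category.assoc, imMap_ι, Abelian.image.fac,
    ← Category.assoc, Abelian.image.fac, w]

/-- Multiplication by `n` after killing a subobject divisible by `n`. -/
theorem isIso_cokernel_map_proj {A B : C} (φ : A ⟶ B) (n : ℕ) [Epi (n • 𝟙 A)]
    (w : (n • 𝟙 B) ≫ cokernel.π φ = cokernel.π φ ≫ (n • 𝟙 (cokernel φ))) :
    IsIso (cokernel.map (n • 𝟙 B) (n • 𝟙 (cokernel φ)) (cokernel.π φ) (cokernel.π φ) w) := by
  have hπ : φ ≫ cokernel.π (n • 𝟙 B) = 0 := by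
    rw [← cancel_epi (n • 𝟙 A), comp_zero, ← Category.assoc]
    rw [show (n • 𝟙 A) ≫ φ = φ ≫ (n • 𝟙 B) by simp, Category.assoc, cokernel.condition, comp_zero]
  let inv' : cokernel φ ⟶ cokernel (n • 𝟙 B) := cokernel.desc φ (cokernel.π (n • 𝟙 B)) hπ
  have hinv : (n • 𝟙 (cokernel φ)) ≫ inv' = 0 := by
    rw [← cancel_epi (cokernel.π φ), comp_zero, ← Category.assoc,
      show cokernel.π φ ≫ (n • 𝟙 (cokernel φ)) = (n • 𝟙 B) ≫ cokernel.π φ by simp, Category.assoc]
    rw [cokernel.π_desc, cokernel.condition]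
  refine ⟨⟨cokernel.desc _ inv' hinv, ?_, ?_⟩⟩
  · rw [← cancel_epi (cokernel.π (n • 𝟙 B))]
    simp [inv']
  · rw [← cancel_epi (cokernel.π (n • 𝟙 (cokernel φ))), ← cancel_epi (cokernel.π φ)]
    simp [inv']

theorem cokernelMap_comp {A B A' B' A'' B'' : C} (f : A ⟶ B) (f' : A' ⟶ B') (f'' : A'' ⟶ B'') (p : A ⟶ A')
    (q : B ⟶ B') (p' : A' ⟶ A'') (q' : B' ⟶ B'') (w : f ≫ q = p ≫ f') (w' : f' ≫ q' = p' ≫ f'')
    (w'' : f ≫ (q ≫ q') = (p ≫ p') ≫ f'') :
    cokernel.map f f' p q w ≫ cokernel.map f' f'' p' q' w' = cokernel.map f f'' (p ≫ p') (q ≫ q') w'' := by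
  rw [← cancel_epi (cokernel.π f)]
  simp

/-- A functor preserving cokernels and inverting a commutative square inverts the map of cokernels. -/
theorem isIso_map_cokernelMap {D : Type w} [Category.{v} D] [HasZeroMorphisms D] (F : C ⥤ D)
    [F.PreservesZeroMorphisms] [PreservesColimitsOfShape WalkingParallelPair F]
    {A B A' B' : C} (f : A ⟶ B) (f' : A' ⟶ B') (p : A ⟶ A') (q : B ⟶ B') (w : f ≫ q = p ≫ f')
    [IsIso (F.map p)] [IsIso (F.map q)] : IsIso (F.map (cokernel.map f f' p q w)) := by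
  have hπ : cokernel.π f ≫ cokernel.map f f' p q w = q ≫ cokernel.π f' := cokernel.π_desc _ _ _
  let h1 := CokernelCofork.mapIsColimit _ (cokernelIsCokernel f) F
  let h2 := CokernelCofork.mapIsColimit _ (cokernelIsCokernel f') F
  have hz : F.map f' ≫ inv (F.map q) ≫ F.map (cokernel.π f) = 0 := by
    rw [← cancel_epi (F.map p), comp_zero, ← Category.assoc, ← F.map_comp, ← w, F.map_comp, Category.assoc,
      IsIso.hom_inv_id_assoc, ← F.map_comp, cokernel.condition, F.map_zero]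
  obtain ⟨l, hl⟩ := CokernelCofork.IsColimit.desc' h2 (inv (F.map q) ≫ F.map (cokernel.π f)) hz
  have hl' : F.map (cokernel.π f') ≫ l = inv (F.map q) ≫ F.map (cokernel.π f) := hl
  refine ⟨⟨l, Cofork.IsColimit.hom_ext h1 ?_, Cofork.IsColimit.hom_ext h2 ?_⟩⟩
  · show F.map (cokernel.π f) ≫ F.map (cokernel.map f f' p q w) ≫ l = F.map (cokernel.π f) ≫ 𝟙 _
    rw [← Category.assoc, ← F.map_comp, hπ, F.map_comp, Category.assoc, hl', IsIso.hom_inv_id_assoc, Category.comp_id]
  · show F.map (cokernel.π f') ≫ l ≫ F.map (cokernel.map f f' p q w) = F.map (cokernel.π f') ≫ 𝟙 _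
    rw [← Category.assoc, hl', Category.assoc, ← F.map_comp, hπ, F.map_comp, IsIso.inv_hom_id_assoc, Category.comp_id]

end Cat

/-- Maps which are bijective at the closed point are bijective on cohomology. -/
theorem bijective_HF_map_of_stalk {A : Type u} [CommRing A] [HenselianLocalRing A]
    {F G : EtCoh.Ab (Spec (CommRingCat.of A))} (φ : F ⟶ G)
    [IsIso ((EtCoh.stalk (HenselClosed.closedGeom A)).map φ)] (n : ℕ) :
    Function.Bijective ((EtCoh.HF (Spec (CommRingCat.of A)) n).map φ) := by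
  haveI h : IsIso ((EtCoh.stalk (HenselClosed.closedGeom A)).map (Abelian.factorThruImage φ ≫ Abelian.image.ι φ)) := by
    rw [Abelian.image.fac]; infer_instance
  rw [Functor.map_comp] at h
  haveI : Mono ((EtCoh.stalk (HenselClosed.closedGeom A)).map (Abelian.factorThruImage φ)) :=
    mono_of_mono _ ((EtCoh.stalk (HenselClosed.closedGeom A)).map (Abelian.image.ι φ))
  haveI : IsIso ((EtCoh.stalk (HenselClosed.closedGeom A)).map (Abelian.factorThruImage φ)) := isIso_of_mono_of_epi _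
  haveI : IsIso ((EtCoh.stalk (HenselClosed.closedGeom A)).map (Abelian.image.ι φ)) :=
    IsIso.of_isIso_comp_left ((EtCoh.stalk (HenselClosed.closedGeom A)).map (Abelian.factorThruImage φ)) _
  have h1 := HenselClosed.bijective_HF_map_of_epi (Abelian.factorThruImage φ) n
  have h2 := HenselClosed.bijective_HF_map_of_mono (Abelian.image.ι φ) n
  have h3 : ((EtCoh.HF (Spec (CommRingCat.of A)) n).map φ : _ → _) =
      (EtCoh.HF (Spec (CommRingCat.of A)) n).map (Abelian.image.ι φ) ∘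
        (EtCoh.HF (Spec (CommRingCat.of A)) n).map (Abelian.factorThruImage φ) :=
    funext fun e => by rw [Function.comp_apply, ← LimCoh.HF_map_comp, Abelian.image.fac]
  rw [h3]
  exact h2.comp h1

theorem mono_nsmul_const (X : Scheme.{u}) {n : ℕ} (hn : n ≠ 0) : Mono (n • 𝟙 (EtCoh.const X ℤ)) := by
  refine (EtSite.mono_iff_stalks _).2 fun Ω _ _ ξ => (injective_iff_map_eq_zero _).2 fun t ht => ?_
  haveI : (EtCoh.stalk ξ).Additive := Functor.additive_of_preserves_binary_products _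
  rw [Functor.map_nsmul, CategoryTheory.Functor.map_id] at ht
  let T := (EtCoh.stalk ξ).obj (EtCoh.const X ℤ)
  let e : T ≅ AddCommGrpCat.of (ULift.{u + 1} ℤ) := Pts.sheafFiberConstIso _ (Sky.inverted ξ) _
  let ev : (T ⟶ T) →+ T := AddMonoidHom.mk' (fun k => k t) fun _ _ => rfl
  have ht' : n • t = 0 := (map_nsmul ev n (𝟙 T)).symm.trans ht
  apply e.addCommGroupIsoToAddEquiv.injective
  rw [map_zero]
  have h := congrArg e.addCommGroupIsoToAddEquiv ht'
  rw [map_nsmul, map_zero] at h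
  have h' : n • (e.addCommGroupIsoToAddEquiv t : ULift.{u + 1} ℤ).down = 0 := congrArg ULift.down h
  refine ULift.ext _ _ ?_
  show (e.addCommGroupIsoToAddEquiv t : ULift.{u + 1} ℤ).down = 0
  rw [nsmul_eq_mul] at h'
  exact (mul_eq_zero.1 h').resolve_left (Int.natCast_ne_zero.2 hn)

theorem nsmul_id_mu (X : Scheme.{u}) (n : ℕ) : n • 𝟙 (EtCoh.mu X n) = 0 := by
  haveI : Mono (EtCoh.muι X n) := inferInstanceAs (Mono (kernel.ι (EtCoh.powMap X n)))
  rw [← cancel_mono (EtCoh.muι X n), zero_comp, Preadditive.nsmul_comp, Category.id_comp]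
  have : EtCoh.muι X n ≫ EtCoh.powMap X n = 0 := kernel.condition _
  rwa [EtCoh.powMap, Preadditive.comp_nsmul, Category.comp_id] at this

/-- The two connecting maps compose to zero when the cokernel comes from a constant sheaf. -/
theorem δδ_eq_zero {A : Type u} [CommRing A] [HenselianLocalRing A] {ℓ : ℕ} (hℓ : ℓ ≠ 0)
    {K G P : EtCoh.Ab (Spec (CommRingCat.of A))} (φ : G ⟶ P) [Epi (ℓ • 𝟙 G)] (f : K ⟶ P) (ψ : P ⟶ P)
    (hψ : ψ = ℓ • 𝟙 P) (h : f ≫ ψ = 0) (hT : (kerSeq f ψ h).ShortExact)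
    (a : EtCoh.const (Spec (CommRingCat.of A)) ℤ ⟶ P)
    [IsIso ((EtCoh.stalk (HenselClosed.closedGeom A)).map (a ≫ cokernel.π φ))] (n : ℕ)
    (z : EtCoh.H (Spec (CommRingCat.of A)) (imSeq ψ).X₃ n) :
    δH hT (n + 1) (δH (shortExact_imSeq ψ) n z) = 0 := by
  subst hψ
  let X := Spec (CommRingCat.of A)
  let m : EtCoh.const X ℤ ⟶ EtCoh.const X ℤ := ℓ • 𝟙 _
  haveI : Mono m := mono_nsmul_const X hℓ
  have hZ : (ShortComplex.mk m (cokernel.π m) (cokernel.condition m)).ShortExact :=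
    { exact := ShortComplex.exact_of_g_is_cokernel _ (cokernelIsCokernel m) }
  have wa : m ≫ a = a ≫ (ℓ • 𝟙 P) := by
    rw [Preadditive.comp_nsmul, Category.comp_id, show m = ℓ • 𝟙 _ from rfl, Preadditive.nsmul_comp,
      Category.id_comp]
  let ρ : cokernel m ⟶ cokernel (ℓ • 𝟙 P) := cokernel.map m (ℓ • 𝟙 P) a a wa
  let Ω : ShortComplex.mk m (cokernel.π m) (cokernel.condition m) ⟶ imSeq (ℓ • 𝟙 P) :=
    { τ₁ := a ≫ Abelian.factorThruImage (ℓ • 𝟙 P)
      τ₂ := a
      τ₃ := ρ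
      comm₁₂ := (Category.assoc _ _ _).trans ((congrArg (a ≫ ·) (Abelian.image.fac _)).trans wa.symm)
      comm₂₃ := (cokernel.π_desc _ _ _).symm }
  have wπ : (ℓ • 𝟙 P) ≫ cokernel.π φ = cokernel.π φ ≫ (ℓ • 𝟙 (cokernel φ)) := by simp
  haveI := isIso_cokernel_map_proj φ ℓ wπ
  have wQ : m ≫ (a ≫ cokernel.π φ) = (a ≫ cokernel.π φ) ≫ (ℓ • 𝟙 (cokernel φ)) := by simp [m]
  haveI : (EtCoh.stalk (HenselClosed.closedGeom A)).Additive := Functor.additive_of_preserves_binary_products _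
  haveI : IsIso ((EtCoh.stalk (HenselClosed.closedGeom A)).map ρ) := by
    have e2 : ρ ≫ cokernel.map (ℓ • 𝟙 P) (ℓ • 𝟙 (cokernel φ)) (cokernel.π φ) (cokernel.π φ) wπ =
        cokernel.map m (ℓ • 𝟙 (cokernel φ)) (a ≫ cokernel.π φ) (a ≫ cokernel.π φ) wQ :=
      cokernelMap_comp _ _ _ _ _ _ _ _ _ _
    haveI h3 : IsIso ((EtCoh.stalk (HenselClosed.closedGeom A)).map
        (ρ ≫ cokernel.map (ℓ • 𝟙 P) (ℓ • 𝟙 (cokernel φ)) (cokernel.π φ) (cokernel.π φ) wπ)) := by
      rw [e2]; exact isIso_map_cokernelMap _ _ _ _ _ _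
    rw [Functor.map_comp] at h3
    exact IsIso.of_isIso_comp_right _ ((EtCoh.stalk (HenselClosed.closedGeom A)).map
      (cokernel.map (ℓ • 𝟙 P) (ℓ • 𝟙 (cokernel φ)) (cokernel.π φ) (cokernel.π φ) wπ))
  obtain ⟨v, rfl⟩ := (bijective_HF_map_of_stalk ρ n).2 z
  rw [← map_δH hZ (shortExact_imSeq (ℓ • 𝟙 P)) Ω n v]
  show δH hT (n + 1) ((EtCoh.HF X (n + 1)).map (a ≫ Abelian.factorThruImage (ℓ • 𝟙 P)) (δH hZ n v)) = 0
  rw [HF_map_comp]
  exact δH_map_g hT (n + 1) _

variable (R : Type u) [CommRing R] [IsDomain R] [IsDiscreteValuationRing R]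

theorem isDiscreteValuationRing_stalk (y : Spec (CommRingCat.of R))
    (hy : y ≠ genericPoint (Spec (CommRingCat.of R))) :
    IsDiscreteValuationRing ((Spec (CommRingCat.of R)).presheaf.stalk y) := by
  have hne : y.asIdeal ≠ ⊥ := fun h => hy (by
    refine PrimeSpectrum.ext ?_
    rw [h]
    exact (congrArg PrimeSpectrum.asIdeal (genericPoint_eq_bot_of_affine (CommRingCat.of R))).symm)
  haveI : IsDedekindDomain R := inferInstance
  haveI : IsLocalization.AtPrime ((Spec.structureSheaf R).presheaf.stalk y) y.asIdeal := inferInstance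
  haveI : IsDomain ((Spec.structureSheaf R).presheaf.stalk y) :=
    inferInstanceAs (IsDomain ((Spec (CommRingCat.of R)).presheaf.stalk y))
  exact IsLocalization.AtPrime.isDiscreteValuationRing_of_dedekind_domain R hne
    ((Spec.structureSheaf R).presheaf.stalk y)

/-- The class of a uniformiser gives a map from the constant sheaf which is bijective at the closed point. -/
theorem exists_constHom_P [HenselianLocalRing R] : ∃ a : EtCoh.const (Spec (CommRingCat.of R)) ℤ ⟶ Divisor.P (Spec (CommRingCat.of R)),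
    IsIso ((EtCoh.stalk (HenselClosed.closedGeom R)).map (a ≫ Divisor.proj (Spec (CommRingCat.of R)))) := by
  let X := Spec (CommRingCat.of R)
  let x₀ : X := closedPoint R
  obtain ⟨π, hπ⟩ := IsDiscreteValuationRing.exists_irreducible R
  let t : Γ(X, ⊤) := (Scheme.ΓSpecIso (CommRingCat.of R)).inv π
  have ht : t ≠ 0 := fun h => hπ.ne_zero (by
    have := congrArg (Scheme.ΓSpecIso (CommRingCat.of R)).hom h
    simpa [t] using this)
  have hgerm : X.presheaf.germ ⊤ x₀ trivial t = algebraMap R ((Spec.structureSheaf R).presheaf.stalk x₀) π := rfl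
  let C : DivGen.UChart x₀ :=
    { U := ⊤
      hU := isAffineOpen_top X
      hxU := trivial
      t := t
      ht := ht
      hmax := by
        rw [hgerm]
        haveI : IsLocalization.AtPrime ((Spec.structureSheaf R).presheaf.stalk x₀) x₀.asIdeal := inferInstance
        haveI : IsLocalRing ((Spec.structureSheaf R).presheaf.stalk x₀) :=
          inferInstanceAs (IsLocalRing (X.presheaf.stalk x₀))
        show maximalIdeal ((Spec.structureSheaf R).presheaf.stalk x₀) = _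
        rw [← IsLocalization.AtPrime.map_eq_maximalIdeal x₀.asIdeal ((Spec.structureSheaf R).presheaf.stalk x₀),
          show x₀.asIdeal = maximalIdeal R from rfl, hπ.maximalIdeal_eq, Ideal.map_span, Set.image_singleton]
        rfl }
  obtain ⟨e⟩ := Divisor.exists_to_oE (EtCoh.top X) (U := (⊤ : X.Opens)) (fun _ _ => trivial)
  let a : EtCoh.const X ℤ ⟶ Divisor.P X := Sky.constHom ((Divisor.P X).obj.map e.op C.τ)
  refine ⟨a, ?_⟩
  haveI : IsLocallyNoetherian X := inferInstance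
  let ξ := HenselClosed.closedGeom R
  have hξ : ξ.base default = x₀ := HenselClosed.closedGeom_apply
  let y := Divisor.topPt ξ
  let yU := (Scheme.pointSmallEtale ξ).fiber.map e y
  have h1 : (EtCoh.stalk ξ).map (a ≫ Divisor.proj X) (Sky.germ ξ (EtCoh.top X) y (Sky.one _)) =
      Sky.germ ξ (oE (⊤ : X.Opens)) yU C.τQ := by
    rw [Sky.stalk_map_germ]
    show Sky.germ ξ (EtCoh.top X) y ((Divisor.proj X).hom.app _ (a.hom.app _ (Sky.one _))) = _
    rw [Sky.constHom_one, (EtCore.topIsTerminal X).hom_ext ((EtCore.topIsTerminal X).from (EtCoh.top X)) (𝟙 _), op_id,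
      Functor.map_id_apply, NatTrans.naturality_apply (Divisor.proj X).hom e.op C.τ, Sky.germ_res]
    rfl
  rw [ConcreteCategory.isIso_iff_bijective]
  refine ⟨(injective_iff_map_eq_zero _).2 fun z hz => ?_, fun z => ?_⟩
  · obtain ⟨n, rfl⟩ := Sky.exists_eq_zsmul ξ (EtCoh.top X) y z
    rw [map_zsmul, h1] at hz
    rw [DivGen.eq_zero_of_zsmul_τQ C ξ hξ yU n hz, zero_smul]
  · obtain ⟨n, rfl⟩ := DivGen.exists_eq_zsmul_τQ C ξ hξ yU z
    exact ⟨n • Sky.germ ξ (EtCoh.top X) y (Sky.one _), by rw [map_zsmul, h1]⟩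

set_option maxHeartbeats 1000000 in
/-- Cohomology of the direct image of roots of unity on a henselian discrete valuation ring. -/
theorem subsingleton_H_push_mu [HenselianLocalRing R] {ℓ : ℕ} (hℓ : ℓ.Prime) (hu : IsUnit (ℓ : R)) (n : ℕ)
    (hK : Subsingleton (EtCoh.H (Spec ((Spec (CommRingCat.of R)).presheaf.stalk (genericPoint (Spec (CommRingCat.of R)))))
      (EtCoh.mu _ ℓ) (n + 2))) :
    Subsingleton (EtCoh.H (Spec (CommRingCat.of R))
      ((EtCoh.push (Divisor.gen (Spec (CommRingCat.of R)))).obj (EtCoh.mu _ ℓ)) (n + 2)) := by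
  let X := Spec (CommRingCat.of R)
  let K := X.functionField
  let Y := Spec (X.presheaf.stalk (genericPoint X))
  let j : Y ⟶ X := Divisor.gen X
  haveI : IsLocallyNoetherian X := inferInstance
  haveI : IsAffineHom j := inferInstance
  haveI := EtSite.preservesFiniteLimits_pull j
  haveI : PreservesFiniteLimits (EtCoh.push j) := Devissage.preservesFiniteLimits_push j
  haveI : (EtCoh.push j).PreservesInjectiveObjects :=
    Functor.preservesInjectiveObjects_of_adjunction_of_preservesMonomorphisms (EtCoh.pullPushAdj j)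
  haveI : (EtCoh.push j).Additive := (EtCoh.pullPushAdj j).right_adjoint_additive
  have huX : IsUnit (ℓ : Γ(X, ⊤)) := by
    simpa using hu.map (Scheme.ΓSpecIso (CommRingCat.of R)).inv.hom
  have huY : IsUnit (ℓ : Γ(Y, ⊤)) := by
    simpa using huX.map j.appTop.hom
  let S := EtSix.kummerSC Y ℓ
  have hS : S.ShortExact := EtSix.kummerShortExact (GmTorsion.epi_powMap huY)
  haveI := hS.mono_f
  haveI := hS.epi_g
  let ι : EtCoh.mu Y ℓ ⟶ Injective.under (EtCoh.mu Y ℓ) := Injective.ι _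
  let E : ShortComplex (EtCoh.Ab Y) := ShortComplex.mk ι (cokernel.π ι) (cokernel.condition ι)
  haveI : Mono E.f := inferInstanceAs (Mono ι)
  haveI : Injective E.X₂ := inferInstanceAs (Injective (Injective.under (EtCoh.mu Y ℓ)))
  have hE : E.ShortExact := { exact := ShortComplex.exact_of_g_is_cokernel _ (cokernelIsCokernel ι) }
  let b : S.X₂ ⟶ E.X₂ := @Injective.factorThru _ _ E.X₂ S.X₁ S.X₂ ‹Injective E.X₂› ι S.f hS.mono_f
  have h₁ : S.f ≫ b = ι := @Injective.comp_factorThru _ _ E.X₂ S.X₁ S.X₂ ‹Injective E.X₂› ι S.f hS.mono_f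
  have hc : S.f ≫ b ≫ E.g = 0 := by
    rw [reassoc_of% h₁]
    exact E.zero
  let c : S.X₃ ⟶ E.X₃ := hS.exact.desc (b ≫ E.g) hc
  have h₂ : S.g ≫ c = b ≫ E.g := hS.exact.g_desc _ _
  let p := EtCoh.push j
  let ψS := p.map S.g
  let ψE := p.map E.g
  have wE : ψS ≫ p.map c = p.map b ≫ ψE := by
    show p.map S.g ≫ p.map c = p.map b ≫ p.map E.g
    rw [← Functor.map_comp, ← Functor.map_comp, h₂]
  haveI hiso : IsIso (cokernel.map ψS ψE (p.map b) (p.map c) wE) := isIso_cokernel_map j hS hE (Iso.refl _) b c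
    (h₁.trans (Category.id_comp _).symm) h₂
    (isZero_Rpush_one_Gm (K := K) j fun W _ => GmH1.isAffine_preimage_point (K := K) j W) wE
  haveI : Mono (p.map S.f) := inferInstance
  haveI : Mono (p.map E.f) := inferInstance
  have zS : p.map S.f ≫ ψS = 0 := by
    show p.map S.f ≫ p.map S.g = 0
    rw [← Functor.map_comp, S.zero, Functor.map_zero]
  have zE : p.map E.f ≫ ψE = 0 := by
    show p.map E.f ≫ p.map E.g = 0
    rw [← Functor.map_comp, E.zero, Functor.map_zero]
  have hTS : (kerSeq (p.map S.f) ψS zS).ShortExact :=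
    shortExact_kerSeq _ _ _ (KernelFork.mapIsLimit _ hS.fIsKernel p)
  have hTE : (kerSeq (p.map E.f) ψE zE).ShortExact :=
    shortExact_kerSeq _ _ _ (KernelFork.mapIsLimit _ hE.fIsKernel p)
  -- the pieces
  let Φ : kerSeq (p.map S.f) ψS zS ⟶ kerSeq (p.map E.f) ψE zE :=
    { τ₁ := 𝟙 _
      τ₂ := p.map b
      τ₃ := imMap ψS ψE (p.map b) (p.map c) wE
      comm₁₂ := (Category.id_comp _).trans ((congrArg p.map h₁).symm.trans (Functor.map_comp _ _ _))
      comm₂₃ := (factorThru_imMap _ _ _ _ _).symm }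
  let Ψ : imSeq ψS ⟶ imSeq ψE :=
    { τ₁ := imMap ψS ψE (p.map b) (p.map c) wE
      τ₂ := p.map c
      τ₃ := cokernel.map ψS ψE (p.map b) (p.map c) wE
      comm₁₂ := imMap_ι _ _ _ _ _
      comm₂₃ := (cokernel.π_desc _ _ _).symm }
  refine subsingleton_of_forall_eq 0 fun z => ?_
  haveI : Injective (kerSeq (p.map E.f) ψE zE).X₂ := p.injective_obj E.X₂
  obtain ⟨x, rfl⟩ := exists_δH hTE (n + 1) z (eq_zero_of_injective (X := X) (p.obj E.X₂) (n + 1) _)
  have hlt : EtAcyc.IsLTorsion {ℓ} (EtCoh.mu Y ℓ) :=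
    DerBC.Killed.isLTorsion ⟨ℓ ^ 1, FinCovCrit.primesIn_pow hℓ 1, by rw [pow_one]; exact nsmul_id_mu Y ℓ⟩
  have hC : Subsingleton (EtCoh.H X (p.obj E.X₃) (n + 1)) := by
    have hRC : ∀ q : ℕ, 0 < q → IsZero ((EtCoh.Rpush j q).obj E.X₃) := by
      intro q hq
      haveI := HasDerivedCategory.standard (EtCoh.Ab Y)
      haveI := L00.RDerLES.epi_map_g (S := EtCoh.push j) hE q
        (isZero_Rpush_gen hℓ huX (isDiscreteValuationRing_stalk R) _ hlt (q + 1) (by omega))
      exact IsZero.of_epi ((EtCoh.Rpush j q).map E.g) (InjPush.isZero_Rpush_injective j E.X₂ q hq)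
    haveI : Subsingleton (EtCoh.H Y E.X₃ (n + 1)) := subsingleton_of_forall_eq 0 fun w => by
      obtain ⟨w', rfl⟩ := exists_map_of_δH_eq_zero hE (n + 1) w (@Subsingleton.elim _ hK _ _)
      rw [eq_zero_of_injective E.X₂ n w']
      exact map_zero ((EtCoh.HF Y (n + 1)).map E.g).hom
    exact (EtSite.bijective_HofPush j E.X₃ hRC (n + 1)).1.subsingleton
  obtain ⟨w, rfl⟩ := exists_δH (shortExact_imSeq ψE) n x (@Subsingleton.elim _ hC _ _)
  obtain ⟨wS, rfl⟩ := (ConcreteCategory.bijective_of_isIso ((EtCoh.HF X n).map Ψ.τ₃)).2 w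
  rw [show (EtCoh.HF X n).map Ψ.τ₃ wS = _ from rfl, ← map_δH (shortExact_imSeq ψS) (shortExact_imSeq ψE) Ψ n wS]
  refine (map_δH hTS hTE Φ (n + 1) (δH (shortExact_imSeq ψS) n wS)).symm.trans ?_
  -- killing by the constant sheaf
  obtain ⟨a, ha⟩ := exists_constHom_P R
  have eP : ψS = ℓ • 𝟙 (Divisor.P X) := by
    show (EtCoh.push j).map (ℓ • 𝟙 (EtCoh.Gm Y)) = _
    rw [Functor.map_nsmul, CategoryTheory.Functor.map_id]
  haveI : Epi (ℓ • 𝟙 (EtCoh.Gm X)) := GmTorsion.epi_powMap huX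
  haveI : IsIso ((EtCoh.stalk (HenselClosed.closedGeom R)).map (a ≫ cokernel.π (Divisor.φ X))) := ha
  have h4 := δδ_eq_zero (A := R) hℓ.ne_zero (P := Divisor.P X) (Divisor.φ X) (p.map S.f) ψS eP zS hTS a n wS
  exact (congrArg ((EtCoh.HF X (n + 1 + 1)).map Φ.τ₁) h4).trans (map_zero ((EtCoh.HF X (n + 1 + 1)).map Φ.τ₁).hom)

end Groth.L28.CdLower
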