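import Groth.Agent.L28.CdLower.Chain
import Groth.Agent.L28.AffLef.FieldCd
import Groth.Agent.L05.Henselization.Noeth

/-! # Dimension and cohomological dimension of a strictly local ring -/

set_option autoImplicit false
set_option linter.style.haveILetI false
set_option linter.unusedSectionVars false
set_option backward.isDefEq.respectTransparency.types false

universe u

open CategoryTheory AlgebraicGeometry IsLocalRing

noncomputable section

namespace Groth.L28.CdLower

open Groth.L28.FieldTower

/-- Cohomological dimension at minimal primes bounds the dimension. -/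
theorem ringKrullDim_le_of_cd {ℓ : ℕ} (hℓ : ℓ.Prime) (R : Type u) [CommRing R] [IsNoetherianRing R]
    (hu : IsUnit (ℓ : R)) {d : ℕ}
    (hd : ∀ P ∈ minimalPrimes R, CdLE ℓ (Spec (CommRingCat.of (FractionRing (R ⧸ P)))) d) :
    ringKrullDim R ≤ d := by
  refine iSup_le fun l => ?_
  obtain ⟨P, hP, hPle⟩ := Ideal.exists_minimalPrimes_le (I := (⊥ : Ideal R)) (J := l.head.asIdeal) bot_le
  haveI := hP.1.1
  have hdim : (l.length : WithBot ℕ∞) ≤ ringKrullDim (R ⧸ P) := by
    rw [ringKrullDim_quotient]
    let l' : LTSeries (PrimeSpectrum.zeroLocus (P : Set R)) := LTSeries.mk l.length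
      (fun i => ⟨l i, (hPle.trans (l.monotone (Fin.zero_le i)) : P ≤ _)⟩) (fun i j h => l.strictMono h)
    exact le_iSup (fun p : LTSeries (PrimeSpectrum.zeroLocus (P : Set R)) => (p.length : WithBot ℕ∞)) l'
  have huP : IsUnit (ℓ : R ⧸ P) := by
    simpa using hu.map (Ideal.Quotient.mk P)
  have := length_le_of_cd hℓ l.length (R ⧸ P) huP d (hd P hP) hdim
  exact_mod_cast this

/-- The field case. -/
theorem cd_strictLocalization_field {ℓ : ℕ} (hℓ : ℓ.Prime) (k : Type u) [Field k] (hℓk : (ℓ : k) ≠ 0) (X : Scheme.{u})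
    (f : X ⟶ Spec (CommRingCat.of k)) [LocallyOfFiniteType f] (x : X) (R : Type u) [CommRing R] [IsLocalRing R]
    [Algebra (X.presheaf.stalk x) R] [IsLocalHom (algebraMap (X.presheaf.stalk x) R)]
    [Hensel.IsStrictHenselization (X.presheaf.stalk x) R] (d : ℕ) :
    (∀ P ∈ minimalPrimes R, CdLE ℓ (Spec (CommRingCat.of (FractionRing (R ⧸ P)))) d) ↔ ringKrullDim R ≤ d := by
  haveI : IsLocallyNoetherian X := LocallyOfFiniteType.isLocallyNoetherian f
  haveI : IsNoetherianRing R :=
    (Groth.L05.Henselization.isNoetherianRing_iff_strict (X.presheaf.stalk x) R).1 inferInstance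
  refine ⟨fun hd => ?_, fun hd P hP => ?_⟩
  · refine ringKrullDim_le_of_cd hℓ R ?_ hd
    have hu : IsUnit (ℓ : Γ(X, ⊤)) := by
      simpa using ((isUnit_iff_ne_zero.2 hℓk).map (Scheme.ΓSpecIso (CommRingCat.of k)).inv.hom).map f.appTop.hom
    simpa using (hu.map (X.presheaf.germ ⊤ x trivial).hom).map (algebraMap (X.presheaf.stalk x) R)
  · haveI := hP.1.1
    exact Groth.L28.AffLef.cdLE_fractionRing_quot hℓ k X f x R P d ((ringKrullDim_quotient_le P).trans hd)

end Groth.L28.CdLower
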