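import Groth.Agent.L28.CdLower.Descend
import Groth.Agent.L28.DimFun.Fibre
import Groth.Agent.L28.DeltaFlat.Dim
import Groth.Agent.S0538
import Groth.Agent.S0539
import Mathlib.Topology.KrullDimension

/-! # Cohomological dimension of residue fields along specializations -/

set_option autoImplicit false
set_option linter.style.haveILetI false
set_option linter.unusedSectionVars false
set_option backward.isDefEq.respectTransparency.types false

universe u

open CategoryTheory AlgebraicGeometry IsLocalRing TopologicalSpace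

noncomputable section

namespace Groth.L28.CdLower

open Groth.L28.FieldTower

variable {X : Scheme.{u}}

/-- The ring map `κ(f p) → Frac (O_y/p)`. -/
def toFraction (y : X) (p : PrimeSpectrum (X.presheaf.stalk y)) :
    X.residueField (X.fromSpecStalk y p) ⟶ CommRingCat.of (FractionRing (X.presheaf.stalk y ⧸ p.asIdeal)) :=
  (X.fromSpecStalk y).residueFieldMap p ≫ (Scheme.Spec.residueFieldIso (X.presheaf.stalk y) p).hom ≫
    (FractionRing.algEquiv (X.presheaf.stalk y ⧸ p.asIdeal) p.asIdeal.ResidueField).symm.toRingEquiv.toCommRingCatIso.hom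

instance isIso_toFraction (y : X) (p : PrimeSpectrum (X.presheaf.stalk y)) : IsIso (toFraction y p) := by
  have hb : Function.Bijective ((X.fromSpecStalk y).residueFieldMap p) := by
    refine ⟨((X.fromSpecStalk y).residueFieldMap p).hom.injective, fun a => ?_⟩
    obtain ⟨b, rfl⟩ := (Spec (X.presheaf.stalk y)).residue_surjective p a
    obtain ⟨c, rfl⟩ := (X.fromSpecStalk y).stalkMap_surjective p b
    exact ⟨X.residue (X.fromSpecStalk y p) c, rfl⟩
  haveI : IsIso ((X.fromSpecStalk y).residueFieldMap p) := (ConcreteCategory.isIso_iff_bijective _).2 hb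
  unfold toFraction
  infer_instance

theorem cdLE_fraction_stalk (y : X) (p : PrimeSpectrum (X.presheaf.stalk y)) {x : X} (hp : X.fromSpecStalk y p = x)
    {ℓ d : ℕ} (h : CdLE ℓ (Spec (X.residueField x)) d) :
    CdLE ℓ (Spec (CommRingCat.of (FractionRing (X.presheaf.stalk y ⧸ p.asIdeal)))) d := by
  subst hp
  exact h.of_integral (Spec.map (toFraction y p))

theorem hord_stalk {ℓ : ℕ} (hord : ℓ ≠ 2 ∨ ∀ x : X, ¬ ∃ _ : LinearOrder (X.residueField x),
      IsStrictOrderedRing (X.residueField x)) (y : X) :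
    ℓ ≠ 2 ∨ ∀ p : PrimeSpectrum (X.presheaf.stalk y),
      ¬ ∃ _ : LinearOrder (FractionRing (X.presheaf.stalk y ⧸ p.asIdeal)),
        IsStrictOrderedRing (FractionRing (X.presheaf.stalk y ⧸ p.asIdeal)) :=
  hord.imp id fun h p => Serre.not_orderable_of_hom (toFraction y p).hom (h _)

theorem isUnit_stalk {ℓ : ℕ} (h : Dix.InvertibleOn X ℓ) (y : X) : IsUnit (ℓ : X.presheaf.stalk y) := by
  by_contra h'
  exact h y (by rw [← map_natCast (X.residue y).hom]; exact (IsLocalRing.residue_eq_zero_iff _).2 h')

/-- The prime of a generalization. -/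
abbrev genPrime (x y : X) (h : x ⤳ y) : PrimeSpectrum (X.presheaf.stalk y) :=
  ⟨RingHom.ker (Cyc.specMap y x h), inferInstance⟩

theorem exists_dim [IsLocallyNoetherian X] (x y : X) (h : x ⤳ y) : ∃ a : ℕ,
    ringKrullDim (X.presheaf.stalk y ⧸ (genPrime x y h).asIdeal) = a := by
  haveI : IsLocalRing (X.presheaf.stalk y ⧸ (genPrime x y h).asIdeal) :=
    IsLocalRing.of_surjective' (Ideal.Quotient.mk _) Ideal.Quotient.mk_surjective
  haveI : IsNoetherianRing (X.presheaf.stalk y) := inferInstance
  haveI : FiniteRingKrullDim (X.presheaf.stalk y ⧸ (genPrime x y h).asIdeal) := inferInstance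
  exact ⟨(LTSeries.longestOf (PrimeSpectrum (X.presheaf.stalk y ⧸ (genPrime x y h).asIdeal))).length,
    Order.krullDim_eq_length_of_finiteDimensionalOrder⟩

theorem one_le_dim (x y : X) (h : x ⤳ y) (hne : x ≠ y) {a : ℕ}
    (ha : ringKrullDim (X.presheaf.stalk y ⧸ (genPrime x y h).asIdeal) = a) : 1 ≤ a := by
  have hp : genPrime x y h < closedPoint (X.presheaf.stalk y) := lt_of_le_of_ne
    (IsLocalRing.le_maximalIdeal (Ideal.IsPrime.ne_top inferInstance)) fun e => hne (by
      rw [← DimFun.fromSpecStalk_ker x y h]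
      exact (congrArg (fun p => X.fromSpecStalk y p) e).trans Scheme.fromSpecStalk_closedPoint)
  let Z := PrimeSpectrum.zeroLocus ((genPrime x y h).asIdeal : Set (X.presheaf.stalk y))
  let l : LTSeries Z := (RelSeries.singleton _ (⟨closedPoint _, hp.le⟩ : Z)).cons ⟨genPrime x y h, fun _ ha => ha⟩ hp
  have h1 : ((l.length : ℕ) : WithBot ℕ∞) ≤ ringKrullDim (X.presheaf.stalk y ⧸ (genPrime x y h).asIdeal) := by
    rw [ringKrullDim_quotient]
    exact Order.LTSeries.length_le_krullDim l
  rw [ha] at h1
  have : l.length = 1 := rfl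
  rw [this] at h1
  exact_mod_cast h1

/-- cohomological dimension drops by the dimension -/
theorem le_cd_point [IsLocallyNoetherian X] {ℓ : ℕ} (hℓ : ℓ.Prime) (hX : Dix.InvertibleOn X ℓ)
    (hord : ℓ ≠ 2 ∨ ∀ x : X, ¬ ∃ _ : LinearOrder (X.residueField x), IsStrictOrderedRing (X.residueField x))
    (x y : X) (h : x ⤳ y) {a d : ℕ} (ha : ringKrullDim (X.presheaf.stalk y ⧸ (genPrime x y h).asIdeal) = a)
    (hd : CdLE ℓ (Spec (X.residueField x)) d) : a ≤ d ∧ CdLE ℓ (Spec (X.residueField y)) (d - a) :=
  le_cd_residue hℓ (hord_stalk hord y) (isUnit_stalk hX y) (genPrime x y h).asIdeal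
    (cdLE_fraction_stalk y (genPrime x y h) (DimFun.fromSpecStalk_ker x y h) hd) a ha.ge

/-- the closure of a point -/
abbrev clPt (x : X) : IrreducibleCloseds X :=
  ⟨closure {x}, isIrreducible_singleton.closure, isClosed_closure⟩

theorem clPt_le {x y : X} (h : x ⤳ y) : clPt y ≤ clPt x :=
  specializes_iff_closure_subset.1 h

theorem clPt_lt {x y : X} (h : x ⤳ y) (hne : x ≠ y) : clPt y < clPt x :=
  lt_of_le_of_ne (clPt_le h) fun e =>
    hne (h.antisymm (specializes_iff_closure_subset.2 (show closure {x} ⊆ closure {y} from e.symm.le))).eq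

theorem height_clPt_le (m : ℕ) (hm : topologicalKrullDim X ≤ m) (x : X) : Order.height (clPt x) ≤ m := by
  have h := (Order.height_le_krullDim (clPt x)).trans hm
  exact_mod_cast h

/-- chains in the local ring give chains of closures -/
theorem height_add_dim_le (x y : X) (h : x ⤳ y) {a : ℕ}
    (ha : ringKrullDim (X.presheaf.stalk y ⧸ (genPrime x y h).asIdeal) = a) :
    Order.height (clPt y) + a ≤ Order.height (clPt x) := by
  obtain ⟨l, hl⟩ : ∃ l : LTSeries (PrimeSpectrum.zeroLocus ((genPrime x y h).asIdeal : Set (X.presheaf.stalk y))),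
      l.length = a := by
    rw [ringKrullDim_quotient] at ha
    haveI : Nonempty (PrimeSpectrum.zeroLocus ((genPrime x y h).asIdeal : Set (X.presheaf.stalk y))) :=
      ⟨⟨genPrime x y h, fun _ ha => ha⟩⟩
    exact Order.le_krullDim_iff.1 (le_of_eq ha.symm)
  subst hl
  let f := X.fromSpecStalk y
  have hs : ∀ {p q : PrimeSpectrum (X.presheaf.stalk y)}, p ≤ q → f p ⤳ f q := fun hpq =>
    ((PrimeSpectrum.le_iff_specializes _ _).1 hpq).map f.continuous
  have hy : ∀ q, f q ⤳ y := fun q => by
    conv => arg 2; rw [← Scheme.fromSpecStalk_closedPoint (X := X) (x := y)]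
    exact hs (IsLocalRing.le_maximalIdeal q.2.ne_top)
  have key : ∀ i : ℕ, ∀ hi : i ≤ l.length,
      Order.height (clPt y) + i ≤ Order.height (clPt (f (l ⟨l.length - i, by omega⟩).1)) := by
    intro i
    induction i with
    | zero => intro _; simpa using Order.height_mono (clPt_le (hy _))
    | succ i ih =>
      intro hi
      have hlt : (l ⟨l.length - (i + 1), by omega⟩).1 < (l ⟨l.length - i, by omega⟩).1 :=
        l.strictMono (Fin.mk_lt_mk.2 (by omega))
      have := Order.height_add_one_le (clPt_lt (hs hlt.le) fun e =>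
        hlt.ne (f.isEmbedding.injective e))
      refine le_trans ?_ this
      push_cast
      rw [← add_assoc]
      exact add_le_add (ih (by omega)) le_rfl
  refine (key l.length le_rfl).trans (Order.height_mono (clPt_le ?_))
  conv => arg 1; rw [← DimFun.fromSpecStalk_ker x y h]
  exact hs (l _).2

/-- the strict henselization of the local ring of a closure is no bigger -/
theorem exists_dim_strict [IsLocallyNoetherian X] (x y : X) (h : x ⤳ y) (R : Type u) [CommRing R] [IsLocalRing R]
    [Algebra (X.presheaf.stalk y) R] [IsLocalHom (algebraMap (X.presheaf.stalk y) R)]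
    [Hensel.IsStrictHenselization (X.presheaf.stalk y) R] {a : ℕ}
    (ha : ringKrullDim (X.presheaf.stalk y ⧸ (genPrime x y h).asIdeal) = a) :
    ∃ e : ℕ, e ≤ a ∧
      ringKrullDim (R ⧸ (RingHom.ker (Cyc.specMap y x h)).map (algebraMap (X.presheaf.stalk y) R)) = e := by
  haveI : IsNoetherianRing (X.presheaf.stalk y) := inferInstance
  haveI : IsNoetherianRing R := (L05.Henselization.isNoetherianRing_iff_strict (X.presheaf.stalk y) R).1 inferInstance
  haveI : Module.FaithfullyFlat (X.presheaf.stalk y) R := Groth.Agent.S0539.result (X.presheaf.stalk y) R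
  have hfib : ∀ q : Ideal R, ∀ _ : q.IsPrime,
      q.comap (algebraMap (X.presheaf.stalk y) R) = maximalIdeal (X.presheaf.stalk y) → q = maximalIdeal R :=
    fun q hq hqc => ((maximalIdeal.isMaximal R).eq_of_le hq.ne_top (by
      rw [← Groth.Agent.S0538.result (X.presheaf.stalk y) R, ← hqc]
      exact Ideal.map_comap_le)).symm
  let I : Ideal R := (RingHom.ker (Cyc.specMap y x h)).map (algebraMap (X.presheaf.stalk y) R)
  have hle : ringKrullDim (R ⧸ I) ≤ (a : WithBot ℕ∞) := by
    rw [ringKrullDim_quotient]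
    refine iSup_le fun l => ?_
    haveI := l.head.1.2
    let l' : LTSeries (PrimeSpectrum.zeroLocus (l.head.1.asIdeal : Set R)) :=
      LTSeries.mk l.length (fun i => ⟨(l i).1, l.head_le i⟩) fun i j hij => l.strictMono hij
    have h1 : (l.length : WithBot ℕ∞) ≤ ringKrullDim (R ⧸ l.head.1.asIdeal) := by
      rw [ringKrullDim_quotient]
      exact Order.LTSeries.length_le_krullDim l'
    refine (h1.trans (Groth.Agent.L28.DeltaFlat.ringKrullDim_quotient_comap_le hfib l.head.1.asIdeal)).trans ?_
    rw [← ha]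
    exact ringKrullDim_le_of_surjective (Ideal.Quotient.factor (Ideal.map_le_iff_le_comap.1 l.head.2))
      (Ideal.Quotient.factor_surjective _)
  have hI : I ≤ maximalIdeal R := by
    rw [← Groth.Agent.S0538.result (X.presheaf.stalk y) R]
    exact Ideal.map_mono (IsLocalRing.le_maximalIdeal (Ideal.IsPrime.ne_top inferInstance))
  haveI : Nontrivial (R ⧸ I) := Ideal.Quotient.nontrivial_iff.2 (ne_top_of_le_ne_top (maximalIdeal.isMaximal R).ne_top hI)
  obtain ⟨k, hk⟩ := WithBot.ne_bot_iff_exists.1
    (fun e => absurd (ringKrullDim_nonneg_of_nontrivial (R := R ⧸ I)) (by rw [e]; simp) : ringKrullDim (R ⧸ I) ≠ ⊥)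
  have hka : k ≤ (a : ℕ∞) := by
    rw [← hk] at hle
    exact_mod_cast hle
  obtain ⟨n, rfl⟩ := ENat.ne_top_iff_exists.1 (ne_top_of_le_ne_top (ENat.natCast_ne_top a) hka)
  exact ⟨n, by exact_mod_cast hka, hk.symm⟩

end Groth.L28.CdLower
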