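import Groth.Agent.L28.CdLower.Gysin
import Groth.Agent.L28.CdLower.Vanish
import Groth.Agent.L28.CdLower.Quot
import Groth.Agent.L27.HenselClosed.Main
import Groth.Agent.L27.LimBC.LAFibre
import Groth.Agent.L27.ExtZero.Restr
import Groth.Agent.L28.Supp.Twist
import Groth.Agent.L28.AcyComp.Iso
import Mathlib.RingTheory.DedekindDomain.Dvr

/-! # From the generic point of a henselian discrete valuation ring to its residue field -/

set_option autoImplicit false
set_option linter.style.haveILetI false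
set_option linter.unusedSectionVars false
set_option backward.isDefEq.respectTransparency.types false

universe u

open CategoryTheory CategoryTheory.Limits AlgebraicGeometry Opposite IsLocalRing

noncomputable section

namespace Groth.L28.CdLower

open Groth.L27 Groth.L27.LimCoh

/-- Cohomology of constant sheaves and isomorphisms. -/
theorem subsingleton_H_const_of_iso {A B : Scheme.{u}} (e : A ⟶ B) [IsIso e] (M : Type) [AddCommGroup M] (q : ℕ)
    (h : Subsingleton (EtCoh.H B (EtCoh.const B M) q)) : Subsingleton (EtCoh.H A (EtCoh.const A M) q) := by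
  haveI := ExtZero.jCont e
  haveI := EtSite.preservesFiniteLimits_pull e
  let ψ : (EtCoh.pull e).obj (EtCoh.const B M) ≅ EtCoh.const A M :=
    (ExtZero.pullRestr e).app _ ≪≫ Supp.restrConst e M
  haveI : Subsingleton (EtCoh.H A ((EtCoh.pull e).obj (EtCoh.const B M)) q) :=
    (AcyComp.bijective_Hpull e _ q).2.subsingleton
  haveI : Subsingleton ((EtCoh.HF A q).obj ((EtCoh.pull e).obj (EtCoh.const B M))) := this
  exact (ConcreteCategory.bijective_of_isIso ((EtCoh.HF A q).map ψ.hom)).2.subsingleton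

variable (R : Type u) [CommRing R] [IsDomain R] [IsDiscreteValuationRing R]

set_option maxHeartbeats 1000000 in
/-- The residue field of a henselian discrete valuation ring in one degree less than the fraction field. -/
theorem subsingleton_H_residue [HenselianLocalRing R] {ℓ : ℕ} (hℓ : ℓ.Prime) (hu : IsUnit (ℓ : R)) {d : ℕ}
    (hK₂ : Subsingleton (EtCoh.H (Spec ((Spec (CommRingCat.of R)).presheaf.stalk (genericPoint (Spec (CommRingCat.of R)))))
      (EtCoh.mu _ ℓ) (d + 2)))
    (hK : Subsingleton (EtCoh.H (Spec ((Spec (CommRingCat.of R)).presheaf.stalk (genericPoint (Spec (CommRingCat.of R)))))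
      (EtCoh.mu _ ℓ) (d + 1))) :
    Subsingleton (EtCoh.H (Spec ((Spec (CommRingCat.of R)).residueField (closedPoint R)))
      (EtCoh.const _ (ZMod ℓ)) d) := by
  let X := Spec (CommRingCat.of R)
  let K := X.functionField
  let Y := Spec (X.presheaf.stalk (genericPoint X))
  let j : Y ⟶ X := Divisor.gen X
  haveI : IsLocallyNoetherian X := inferInstance
  haveI : IsAffineHom j := inferInstance
  haveI := EtSite.preservesFiniteLimits_pull j
  have huX : IsUnit (ℓ : Γ(X, ⊤)) := by
    simpa using hu.map (Scheme.ΓSpecIso (CommRingCat.of R)).inv.hom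
  have huY : IsUnit (ℓ : Γ(Y, ⊤)) := by
    simpa using huX.map j.appTop.hom
  let S := EtSix.kummerSC Y ℓ
  have hS : S.ShortExact := EtSix.kummerShortExact (GmTorsion.epi_powMap huY)
  haveI := hS.mono_f
  haveI := hS.epi_g
  let ι : EtCoh.mu Y ℓ ⟶ Injective.under (EtCoh.mu Y ℓ) := Injective.ι _
  let E : ShortComplex (EtCoh.Ab Y) := ShortComplex.mk ι (cokernel.π ι) (cokernel.condition ι)
  haveI : Mono E.f := inferInstanceAs (Mono ι)
  haveI : Injective E.X₂ := inferInstanceAs (Injective (Injective.under (EtCoh.mu Y ℓ)))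
  have hE : E.ShortExact := { exact := ShortComplex.exact_of_g_is_cokernel _ (cokernelIsCokernel ι) }
  let b : S.X₂ ⟶ E.X₂ := @Injective.factorThru _ _ E.X₂ S.X₁ S.X₂ ‹Injective E.X₂› ι S.f hS.mono_f
  have h₁ : S.f ≫ b = ι := @Injective.comp_factorThru _ _ E.X₂ S.X₁ S.X₂ ‹Injective E.X₂› ι S.f hS.mono_f
  have hc : S.f ≫ b ≫ E.g = 0 := by
    rw [reassoc_of% h₁]
    exact E.zero
  let c : S.X₃ ⟶ E.X₃ := hS.exact.desc (b ≫ E.g) hc
  have h₂ : S.g ≫ c = b ≫ E.g := hS.exact.g_desc _ _
  have hlt : EtAcyc.IsLTorsion {ℓ} (EtCoh.mu Y ℓ) :=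
    DerBC.Killed.isLTorsion ⟨ℓ ^ 1, FinCovCrit.primesIn_pow hℓ 1, by rw [pow_one]; exact nsmul_id_mu Y ℓ⟩
  have hY : Subsingleton (EtCoh.H X ((EtCoh.push j).obj E.X₁) (d + 2)) := subsingleton_H_push_mu R hℓ hu d hK₂
  have h0 : Subsingleton (EtCoh.H X (cokernel ((EtCoh.push j).map E.g)) d) :=
    subsingleton_H_cokernel j hE (fun q hq => isZero_Rpush_gen hℓ huX (isDiscreteValuationRing_stalk R) _ hlt q hq)
      d hK hY
  obtain ⟨e₁⟩ := exists_cokernel_iso j hS hE (Iso.refl _) b c (h₁.trans (Category.id_comp _).symm) h₂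
    (isZero_Rpush_one_Gm (K := K) j fun W _ => GmH1.isAffine_preimage_point (K := K) j W)
  haveI : (EtCoh.push j).Additive := (EtCoh.pullPushAdj j).right_adjoint_additive
  have eP : (EtCoh.push j).map S.g = ℓ • 𝟙 (Divisor.P X) := by
    show (EtCoh.push j).map (ℓ • 𝟙 (EtCoh.Gm Y)) = _
    rw [Functor.map_nsmul, CategoryTheory.Functor.map_id]
  haveI : Epi (ℓ • 𝟙 (EtCoh.Gm X)) := GmTorsion.epi_powMap huX
  obtain ⟨e₂⟩ := nonempty_cokernel_nsmul (Divisor.φ X) ℓ
  obtain ⟨eQ⟩ := nonempty_iso_Q R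
  obtain ⟨e₃⟩ := nonempty_cokernel_nsmul_congr eQ ℓ
  let i := X.fromSpecResidueField (closedPoint R)
  haveI : IsClosedImmersion i := isClosed_singleton_iff_isClosedImmersion.1 (isClosed_singleton_closedPoint R)
  haveI : IsIntegralHom i := inferInstance
  obtain ⟨e₄⟩ := nonempty_cokernel_nsmul_const i ℓ
  let e' : cokernel ((EtCoh.push j).map E.g) ≅ (EtCoh.push i).obj (EtCoh.const _ (ZMod ℓ)) :=
    e₁.symm ≪≫ cokernelIsoOfEq eP ≪≫ e₂ ≪≫ e₃ ≪≫ e₄
  haveI : Subsingleton (EtCoh.H X ((EtCoh.push i).obj (EtCoh.const _ (ZMod ℓ))) d) :=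
    haveI : Subsingleton ((EtCoh.HF X d).obj (cokernel ((EtCoh.push j).map E.g))) := h0
    (ConcreteCategory.bijective_of_isIso ((EtCoh.HF X d).map e'.hom)).2.subsingleton
  haveI := EtSite.preservesFiniteLimits_pull i
  exact (EtSite.bijective_HofPush i _
    (fun s hs => EtSite.isZero_Rpush_of_propB i (EtSite.propB_of_isIntegralHom i) _ s hs) d).2.subsingleton

end Groth.L28.CdLower
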