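import Groth.Agent.L28.CdLower.Descend
import Groth.Agent.L28.FieldTower.Main
import Mathlib.RingTheory.Polynomial.Basic
import Mathlib.RingTheory.KrullDimension.Polynomial

/-! # Finitely generated extensions raise the cohomological dimension by the transcendence degree -/

set_option autoImplicit false
set_option linter.style.haveILetI false
set_option linter.unusedSectionVars false
set_option backward.isDefEq.respectTransparency.types false

universe u

open CategoryTheory AlgebraicGeometry

noncomputable section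

namespace Groth.L28.CdLower

open Groth.L28.FieldTower

theorem cdLE_base_ratF {ℓ : ℕ} (hℓ : ℓ.Prime) (k : Type u) [Field k] (hk : (ℓ : k) ≠ 0)
    (hord : ℓ ≠ 2 ∨ ¬ ∃ _ : LinearOrder k, IsStrictOrderedRing k) {d : ℕ}
    (h : CdLE ℓ (Spec (CommRingCat.of (RatF k))) d) : 1 ≤ d ∧ CdLE ℓ (Spec (CommRingCat.of k)) (d - 1) := by
  let A := Polynomial k
  let Q : Ideal A := Ideal.span {Polynomial.X}
  haveI : Q.IsPrime := (Ideal.span_singleton_prime Polynomial.X_ne_zero).2 Polynomial.prime_X
  haveI : Q.IsMaximal := IsPrime.to_maximal_ideal (fun e => Polynomial.X_ne_zero (Ideal.span_singleton_eq_bot.1 e))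
  have hQ : Q.height = 1 := by
    refine le_antisymm (Ideal.height_le_one_of_isPrincipal_of_mem_minimalPrimes Q Q ?_) ?_
    · rw [Ideal.minimalPrimes_eq_subsingleton_self]; rfl
    · rw [Order.one_le_iff_pos, pos_iff_ne_zero, Ne, Ideal.height_eq_zero_iff,
        IsDomain.minimalPrimes_eq_singleton_bot]
      exact fun e => Polynomial.X_ne_zero (Ideal.span_singleton_eq_bot.1 (Set.mem_singleton_iff.1 e))
  have hu : IsUnit (ℓ : A) := by
    simpa using (isUnit_iff_ne_zero.2 hk).map (algebraMap k A)
  obtain ⟨E, _, f, hf, h1, hE⟩ := exists_residue_extension hℓ A hu h Q hQ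
  refine ⟨h1, ?_⟩
  let g : k →+* Q.ResidueField := (algebraMap A Q.ResidueField).comp (algebraMap k A)
  have hg : Function.Surjective g := by
    intro z
    obtain ⟨w, rfl⟩ := (Ideal.bijective_algebraMap_quotient_residueField Q).2 z
    obtain ⟨p, rfl⟩ := Ideal.Quotient.mk_surjective w
    refine ⟨p.coeff 0, ?_⟩
    show algebraMap (A ⧸ Q) Q.ResidueField (Ideal.Quotient.mk Q (Polynomial.C (p.coeff 0))) = _
    congr 1
    refine Ideal.Quotient.eq.2 (Ideal.mem_span_singleton.2 (Polynomial.X_dvd_iff.2 ?_))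
    rw [Polynomial.coeff_sub, Polynomial.coeff_C_zero, sub_self]
  exact Serre.cdLE_of_finite_extension hℓ k E (f.comp g) (hf.comp (RingHom.Finite.of_surjective _ hg)) hord hE

theorem le_cd_of_fg {ℓ : ℕ} (hℓ : ℓ.Prime) : ∀ (t : ℕ) (k k' : Type u) [Field k] [Field k'] [Algebra k k'],
    Algebra.trdeg k k' = t → (∃ s : Finset k', IntermediateField.adjoin k (s : Set k') = ⊤) → (ℓ : k) ≠ 0 →
    (ℓ ≠ 2 ∨ ¬ ∃ _ : LinearOrder k, IsStrictOrderedRing k) →
    ∀ d, CdLE ℓ (Spec (CommRingCat.of k')) d → t ≤ d ∧ CdLE ℓ (Spec (CommRingCat.of k)) (d - t)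
  | 0, k, k', _, _, _, ht, ⟨s, hs⟩, _, hord, d, hd => by
    haveI : Algebra.IsAlgebraic k k' := trdeg_eq_zero_iff.1 (ht.trans Nat.cast_zero)
    haveI : FiniteDimensional k (IntermediateField.adjoin k (s : Set k')) :=
      IntermediateField.finiteDimensional_adjoin fun x _ => Algebra.IsIntegral.isIntegral x
    haveI : FiniteDimensional k k' :=
      Module.Finite.equiv ((IntermediateField.equivOfEq hs).trans IntermediateField.topEquiv).toLinearEquiv
    exact ⟨Nat.zero_le d, Serre.cdLE_of_finite_extension hℓ k k' (algebraMap k k')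
      (RingHom.finite_algebraMap.2 inferInstance) hord hd⟩
  | t + 1, k, k', _, _, _, ht, ⟨s, hs⟩, hk, hord, d, hd => by
    obtain ⟨x, hx⟩ : ∃ x : k', Transcendental k x := by
      by_contra hall
      push Not at hall
      haveI : Algebra.IsAlgebraic k k' := ⟨fun x => not_not.1 (hall x)⟩
      rw [trdeg_eq_zero] at ht
      exact (Nat.succ_ne_zero t) (Nat.cast_eq_zero.1 ht.symm)
    have hinj : Function.Injective (Polynomial.aeval x : Polynomial k →ₐ[k] k') := transcendental_iff_injective.1 hx
    let φ : RatF k →ₐ[k] k' := IsFractionRing.liftAlgHom hinj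
    letI : Algebra (RatF k) k' := φ.toRingHom.toAlgebra
    haveI : IsScalarTower k (RatF k) k' := IsScalarTower.of_algebraMap_eq fun r => (φ.commutes r).symm
    have h1 : (1 : Cardinal) + Algebra.trdeg (RatF k) k' = 1 + (t : Cardinal) := by
      have h2 := trdeg_add_eq k (RatF k) (A := k')
      rw [trdeg_ratF, ht, Nat.cast_add, Nat.cast_one] at h2
      rw [h2, add_comm]
    have h3 : Algebra.trdeg (RatF k) k' = t := Cardinal.eq_of_add_eq_add_left h1 Cardinal.one_lt_aleph0
    have hfg : IntermediateField.adjoin (RatF k) (s : Set k') = ⊤ := by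
      refine eq_top_iff.2 fun z _ => ?_
      have hle : IntermediateField.adjoin k (s : Set k') ≤
          IntermediateField.restrictScalars k (IntermediateField.adjoin (RatF k) (s : Set k')) :=
        IntermediateField.adjoin_le_iff.2 fun a ha => IntermediateField.subset_adjoin (RatF k) _ ha
      exact hle (hs ▸ IntermediateField.mem_top)
    have hk' : (ℓ : RatF k) ≠ 0 := by
      rw [← map_natCast (algebraMap k (RatF k))]
      exact (map_ne_zero _).2 hk
    obtain ⟨ht', h4⟩ := le_cd_of_fg hℓ t (RatF k) k' h3 ⟨s, hfg⟩ hk'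
      (hord.imp id (Serre.not_orderable_of_hom (algebraMap k (RatF k)))) d hd
    obtain ⟨h5, h6⟩ := cdLE_base_ratF hℓ k hk hord h4
    exact ⟨by omega, cdLE_mono h6 (by omega)⟩

end Groth.L28.CdLower
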