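import Groth.Agent.L28.CdLower.Residue
import Groth.Agent.L28.CdLower.Chain
import Groth.Agent.L05.Hensel.IntegralDomain
import Groth.Agent.L02.KrullAkizuki
import Mathlib.RingTheory.LocalRing.ResidueField.Basic

/-! # The fraction field of a henselian one-dimensional local domain -/

set_option autoImplicit false
set_option linter.style.haveILetI false
set_option linter.unusedSectionVars false
set_option backward.isDefEq.respectTransparency.types false

universe u

open CategoryTheory CategoryTheory.Limits AlgebraicGeometry Opposite IsLocalRing

noncomputable section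

namespace Groth.L28.CdLower

open Groth.L27
open FieldTower (CdLE)

/-- A henselian local ring has the cohomological dimension of its residue field. -/
theorem cdLE_spec_henselian (R : Type u) [CommRing R] [HenselianLocalRing R] {ℓ d : ℕ}
    (h : CdLE ℓ (Spec (CommRingCat.of (ResidueField R))) d) : CdLE ℓ (Spec (CommRingCat.of R)) d := by
  intro F hF q hq
  let i := Spec.map (CommRingCat.ofHom (residue R))
  haveI := EtSite.preservesFiniteLimits_pull i
  haveI : Subsingleton (EtCoh.H (Spec (CommRingCat.of (ResidueField R))) ((EtCoh.pull i).obj F) q) :=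
    h _ (CompTransfer.isLTorsion_pull _ i hF) q hq
  exact (HenselClosed.bijective_Hpull_closedPoint R F q).1.subsingleton

/-- The fraction field of a henselian discrete valuation ring. -/
theorem cdLE_fraction_dvr {ℓ : ℕ} (hℓ : ℓ.Prime) (R : Type u) [CommRing R] [IsDomain R] [IsDiscreteValuationRing R]
    [HenselianLocalRing R] (hu : IsUnit (ℓ : R)) {d : ℕ}
    (h : CdLE ℓ (Spec (CommRingCat.of (ResidueField R))) d) :
    CdLE ℓ (Spec (CommRingCat.of (FractionRing R))) (d + 1) := by
  let X := Spec (CommRingCat.of R)
  let Y := Spec (X.presheaf.stalk (genericPoint X))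
  let j : Y ⟶ X := Divisor.gen X
  haveI : IsLocallyNoetherian X := inferInstance
  haveI : IsAffineHom j := inferInstance
  have huX : IsUnit (ℓ : Γ(X, ⊤)) := by
    simpa using hu.map (Scheme.ΓSpecIso (CommRingCat.of R)).inv.hom
  have hY : CdLE ℓ Y (d + 1) := fun F hF q hq =>
    FieldTower.CdLE.of_leray j d (cdLE_spec_henselian R h) 1 F hF
      (fun b hb => isZero_Rpush_gen hℓ huX (isDiscreteValuationRing_stalk R) F hF b (by omega)) q hq
  let L := X.functionField
  haveI : IsDomain (CommRingCat.of R) := ‹IsDomain R›
  letI : Algebra R L := instAlgebraCarrierFunctionFieldSpec (CommRingCat.of R)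
  haveI : IsFractionRing R L := functionField_isFractionRing_of_affine (CommRingCat.of R)
  let e : X.presheaf.stalk (genericPoint X) ≅ CommRingCat.of (FractionRing R) :=
    (FractionRing.algEquiv R L).symm.toRingEquiv.toCommRingCatIso
  exact hY.of_integral (Spec.map e.hom)

theorem finite_residue {D B : Type u} [CommRing D] [CommRing B] [Algebra D B] {M : Ideal B} {m : Ideal D}
    (hc : M.comap (algebraMap D B) = m) (h : Module.Finite (D ⧸ M.comap (algebraMap D B)) (B ⧸ M)) :
    (Ideal.quotientMap M (algebraMap D B) hc.ge : D ⧸ m →+* B ⧸ M).Finite := by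
  subst hc
  exact RingHom.finite_algebraMap.2 h

/-- The normalisation of a henselian one-dimensional local domain is a henselian discrete valuation ring. -/
theorem exists_normalization (D : Type u) [CommRing D] [IsDomain D] [IsNoetherianRing D] [HenselianLocalRing D]
    [Ring.DimensionLEOne D] (hnf : ¬ IsField D) :
    ∃ (B : Type u) (_ : CommRing B) (_ : IsDomain B) (_ : IsDiscreteValuationRing B) (_ : HenselianLocalRing B)
      (f : D →+* B) (g : ResidueField D →+* ResidueField B),
      g.Finite ∧ Nonempty (FractionRing B ≃+* FractionRing D) ∧ Function.Injective f := by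
  let L := FractionRing D
  let B := integralClosure D L
  obtain ⟨hB, -, -, hfin⟩ := Groth.L02.KrullAkizuki.main (A := D) (B := B) L L
  haveI := hB
  haveI : IsFractionRing B L := IsIntegralClosure.isFractionRing_of_finite_extension D L L B
  haveI : Algebra.IsIntegral D B := IsIntegralClosure.isIntegral_algebra D L
  haveI : IsLocalRing B := Groth.L05.isLocalRing_of_integral_domain (A := D) B
  haveI : HenselianLocalRing B := Groth.L05.henselianLocalRing_of_integral (A := D) B
  have hinj : Function.Injective (algebraMap D B) := fun a b e =>
    IsFractionRing.injective D L (congrArg Subtype.val e)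
  have hnfB : ¬ IsField B := fun h => hnf (isField_of_isIntegral_of_isField (R := D) (S := B) hinj h)
  haveI : IsDiscreteValuationRing B :=
    ((IsDiscreteValuationRing.TFAE B hnfB).out 0 2 (a := IsDiscreteValuationRing B) (b := IsDedekindDomain B)).2 ‹_›
  have hc : (maximalIdeal B).comap (algebraMap D B) = maximalIdeal D :=
    IsLocalRing.eq_maximalIdeal (Ideal.isMaximal_comap_of_isIntegral_of_isMaximal (maximalIdeal B))
  let g : ResidueField D →+* ResidueField B := Ideal.quotientMap (maximalIdeal B) (algebraMap D B) hc.ge
  have hg : g.Finite := finite_residue hc (hfin (maximalIdeal B) inferInstance)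
  exact ⟨B, inferInstance, inferInstance, inferInstance, inferInstance, algebraMap D B, g, hg,
    ⟨(FractionRing.algEquiv B L).toRingEquiv⟩, hinj⟩

end Groth.L28.CdLower
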